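import Mathlib
import Cfsg.Agent.SylowNum.PermSeven
import Cfsg.Agent.SylowNum.Formula

set_option autoImplicit false

/-! Groups acting faithfully on eighteen Sylow 17-subgroups: the basic structure. -/

namespace Cfsg.Agent.Classification.SylowEighteen

open MulAction
open scoped Pointwise

/-- Eighteen Sylow 17-subgroups, permuted faithfully. -/
structure Eighteen (H : Type*) [Group H] : Prop where
  card : Nat.card (Sylow 17 H) = 18
  faith : ∀ g : H, (∀ Q : Sylow 17 H, g • Q = Q) → g = 1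

variable {H : Type*} [Group H] [Finite H] [Fact (Nat.Prime 17)]

namespace Eighteen

theorem exists_ne (h : Eighteen H) (P : Sylow 17 H) : ∃ Q : Sylow 17 H, Q ≠ P := by
  have : Nontrivial (Sylow 17 H) := Finite.one_lt_card_iff_nontrivial.mp (by rw [h.card]; norm_num)
  exact _root_.exists_ne P

theorem toPerm_injective (h : Eighteen H) :
    Function.Injective (MulAction.toPermHom H (Sylow 17 H)) :=
  (injective_iff_map_eq_one _).mpr fun g hg => h.faith g fun Q => congrArg (fun σ : Equiv.Perm _ => σ Q) hg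

theorem card_sylow (h : Eighteen H) (P : Sylow 17 H) : Nat.card (P : Subgroup H) = 17 := by
  have h17 : Nat.Prime 17 := Fact.out
  have hdvd : Nat.card H ∣ Nat.factorial 18 := by
    have := Subgroup.card_dvd_of_injective _ h.toPerm_injective
    rwa [Nat.card_perm, h.card] at this
  obtain ⟨e, he⟩ := IsPGroup.iff_card.mp P.isPGroup'
  have he2 : 17 ^ e ∣ Nat.factorial 18 := he ▸ ((P : Subgroup H).card_subgroup_dvd_card.trans hdvd)
  have hlt : e < 2 := by
    by_contra hc
    have : 17 ^ 2 ∣ Nat.factorial 18 := (pow_dvd_pow 17 (not_lt.mp hc)).trans he2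
    revert this
    decide +kernel
  have hne : e ≠ 0 := by
    rintro rfl
    obtain ⟨Q, hQ⟩ := h.exists_ne P
    refine hQ (Sylow.ext ?_)
    have hP : (P : Subgroup H) = ⊥ := Subgroup.eq_bot_of_card_eq _ (by simpa using he)
    have := (P.is_maximal' Q.isPGroup' (by rw [hP]; exact bot_le))
    exact this
  interval_cases e <;> simp_all

theorem eq_of_fixes (h : Eighteen H) {P Q : Sylow 17 H} (hf : ∀ p ∈ (P : Subgroup H), p • Q = Q) :
    Q = P := by
  have h1 : (P : Subgroup H) ≤ Subgroup.normalizer (Q : Set H) :=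
    fun p hp => Sylow.smul_eq_iff_mem_normalizer.mp (hf p hp)
  have h2 : (P : Subgroup H) ≤ Q := by
    rw [← inf_eq_left, ← P.isPGroup'.inf_normalizer_sylow Q, inf_eq_left]
    exact h1
  exact Sylow.ext (P.is_maximal' Q.isPGroup' h2)

theorem free (h : Eighteen H) {P Q : Sylow 17 H} (hQ : Q ≠ P) {p : H}
    (hp : p ∈ (P : Subgroup H)) (hf : p • Q = Q) : p = 1 := by
  by_contra hp1
  refine hQ (h.eq_of_fixes fun x hx => ?_)
  have : Fact (Nat.Prime (Nat.card (P : Subgroup H))) := ⟨by rw [h.card_sylow P]; exact Fact.out⟩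
  obtain ⟨n, hn⟩ := mem_zpowers_of_prime_card (g' := (⟨x, hx⟩ : (P : Subgroup H)))
    (G := (P : Subgroup H)) (h := rfl) (g := ⟨p, hp⟩) (fun e => hp1 (congrArg Subtype.val e))
  have hx' : p ^ n = x := congrArg Subtype.val hn
  rw [← hx']
  exact mem_stabilizer_iff.mp (zpow_mem (mem_stabilizer_iff.mpr hf) n)

theorem smul_self (P : Sylow 17 H) {p : H} (hp : p ∈ (P : Subgroup H)) : p • P = P :=
  Sylow.smul_eq_iff_mem_normalizer.mpr (Subgroup.le_normalizer hp)

theorem exists_smul_eq (h : Eighteen H) {P Q R : Sylow 17 H} (hQ : Q ≠ P) (hR : R ≠ P) :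
    ∃ p ∈ (P : Subgroup H), p • Q = R := by
  let f : ↥(P : Subgroup H) → {R : Sylow 17 H // R ≠ P} := fun p =>
    ⟨(p : H) • Q, fun e => hQ (smul_left_cancel (p : H) (e.trans (smul_self P p.2).symm))⟩
  have hinj : Function.Injective f := fun a b e => by
    have e' : (a : H) • Q = (b : H) • Q := congrArg Subtype.val e
    have := h.free hQ (mul_mem (inv_mem b.2) a.2) (by rw [mul_smul, e', inv_smul_smul])
    exact Subtype.ext (inv_mul_eq_one.mp this).symm
  have hcard : Nat.card {R : Sylow 17 H // R ≠ P} = 17 := by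
    classical
    have := Fintype.ofFinite (Sylow 17 H)
    rw [Nat.card_eq_fintype_card, Fintype.card_subtype_compl, Fintype.card_subtype_eq,
      ← Nat.card_eq_fintype_card, h.card]
  obtain ⟨p, hp⟩ := ((Nat.bijective_iff_injective_and_card f).mpr
    ⟨hinj, by rw [h.card_sylow P, hcard]⟩).2 ⟨R, hR⟩
  exact ⟨p, p.2, congrArg Subtype.val hp⟩

theorem smul_of_commute {P Q : Sylow 17 H} {x : H} (hx : x • Q = Q)
    (hc : ∀ p ∈ (P : Subgroup H), x * p = p * x) {p : H} (hp : p ∈ (P : Subgroup H)) :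
    x • (p • Q) = p • Q := by
  rw [← mul_smul, hc p hp, mul_smul, hx]

theorem eq_one_of_commute (h : Eighteen H) {P Q : Sylow 17 H} (hQ : Q ≠ P) {x : H} (hxP : x • P = P)
    (hx : x • Q = Q) (hc : ∀ p ∈ (P : Subgroup H), x * p = p * x) : x = 1 := by
  refine h.faith x fun R => ?_
  by_cases hR : R = P
  · rw [hR, hxP]
  · obtain ⟨p, hp, rfl⟩ := h.exists_smul_eq hQ hR
    exact smul_of_commute hx hc hp

theorem mem_of_commute (h : Eighteen H) {P : Sylow 17 H} {x : H}
    (hc : ∀ p ∈ (P : Subgroup H), x * p = p * x) : x ∈ (P : Subgroup H) := by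
  have hxP : x • P = P := Sylow.smul_eq_iff_mem_normalizer.mpr
    (Subgroup.centralizer_le_normalizer _ (Subgroup.mem_centralizer_iff.mpr fun p hp => (hc p hp).symm))
  obtain ⟨Q, hQ⟩ := h.exists_ne P
  obtain ⟨p, hp, hpQ⟩ := h.exists_smul_eq hQ
    (R := x • Q) (fun e => hQ (smul_left_cancel x (e.trans hxP.symm)))
  have : p⁻¹ * x = 1 := by
    refine h.eq_one_of_commute hQ (by rw [mul_smul, hxP, smul_self P (inv_mem hp)])
      (by rw [mul_smul, ← hpQ, inv_smul_smul]) fun q hq => ?_
    have hcomm : p⁻¹ * q = q * p⁻¹ := by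
      have : IsCyclic (P : Subgroup H) := isCyclic_of_prime_card (p := 17) (h.card_sylow P)
      exact congrArg Subtype.val
        (IsCyclic.commGroup.mul_comm (⟨p⁻¹, inv_mem hp⟩ : (P : Subgroup H)) ⟨q, hq⟩)
    rw [mul_assoc, hc q hq, ← mul_assoc, hcomm, mul_assoc]
  rw [← (inv_mul_eq_one.mp this)]
  exact hp

theorem eq_one_of_three (h : Eighteen H) {P Q R : Sylow 17 H} (hQ : Q ≠ P) (hR : R ≠ P) (hQR : R ≠ Q)
    {x : H} (hP : x • P = P) (hxQ : x • Q = Q) (hxR : x • R = R) : x = 1 := by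
  obtain ⟨p, hp, rfl⟩ := h.exists_smul_eq hQ hR
  have hmem : x * p * x⁻¹ ∈ (P : Subgroup H) :=
    (Subgroup.mem_normalizer_iff.mp (Sylow.smul_eq_iff_mem_normalizer.mp hP) p).mp hp
  have he : x * p * x⁻¹ = p := by
    refine (inv_mul_eq_one.mp (h.free hQ (mul_mem (inv_mem hp) hmem) ?_)).symm
    rw [mul_smul, mul_smul, mul_smul, inv_smul_eq_iff.mpr hxQ.symm, hxR, inv_smul_smul]
  have hp1 : p ≠ 1 := fun e => hQR (by rw [e, one_smul])
  refine h.eq_one_of_commute hQ hP hxQ fun q hq => ?_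
  have : Fact (Nat.Prime (Nat.card (P : Subgroup H))) := ⟨by rw [h.card_sylow P]; exact Fact.out⟩
  obtain ⟨n, hn⟩ := mem_zpowers_of_prime_card (g' := (⟨q, hq⟩ : (P : Subgroup H)))
    (G := (P : Subgroup H)) (h := rfl) (g := ⟨p, hp⟩) (fun e => hp1 (congrArg Subtype.val e))
  have hq' : p ^ n = q := congrArg Subtype.val hn
  rw [← hq']
  exact (Commute.zpow_right (mul_inv_eq_iff_eq_mul.mp he) n : x * p ^ n = p ^ n * x)

theorem inv_of_involution (h : Eighteen H) {P Q : Sylow 17 H} (hQ : Q ≠ P) {x : H} (hx1 : x ≠ 1)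
    (hx2 : x * x = 1) (hP : x • P = P) (hxQ : x • Q = Q) {p : H} (hp : p ∈ (P : Subgroup H)) :
    x * p * x = p⁻¹ := by
  have hxi : x⁻¹ = x := inv_eq_of_mul_eq_one_left hx2
  have hmem : x * p * x ∈ (P : Subgroup H) := by
    have := (Subgroup.mem_normalizer_iff.mp (Sylow.smul_eq_iff_mem_normalizer.mp hP) p).mp hp
    rwa [hxi] at this
  have : IsCyclic (P : Subgroup H) := isCyclic_of_prime_card (p := 17) (h.card_sylow P)
  have hcomm : (x * p * x) * p = p * (x * p * x) :=
    congrArg Subtype.val (IsCyclic.commGroup.mul_comm (⟨_, hmem⟩ : (P : Subgroup H)) ⟨p, hp⟩)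
  set q := p * (x * p * x) with hq
  have hfix : x • (q • Q) = q • Q := by
    have e : x * q = q * x := by
      calc x * q = x * (x * p * x * p) := by rw [hq, hcomm]
        _ = (x * x) * (p * x * p) := by group
        _ = p * x * p * (x * x) := by rw [hx2, one_mul, mul_one]
        _ = q * x := by rw [hq]; group
    rw [← mul_smul, e, mul_smul, hxQ]
  have hqm : q ∈ (P : Subgroup H) := mul_mem hp hmem
  by_contra hne
  have hq1 : q ≠ 1 := fun e => hne (eq_inv_of_mul_eq_one_right e)
  refine hx1 (h.eq_one_of_three hQ (fun e => hQ (smul_left_cancel q (e.trans (smul_self P hqm).symm)))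
    (fun e => hq1 (h.free hQ hqm e)) hP hxQ hfix)

/-- Involutions with two common fixed points agree. -/
theorem involution_unique (h : Eighteen H) {P Q : Sylow 17 H} (hQ : Q ≠ P) {x y : H} (hx1 : x ≠ 1)
    (hx2 : x * x = 1) (hy1 : y ≠ 1) (hy2 : y * y = 1) (hxP : x • P = P) (hxQ : x • Q = Q)
    (hyP : y • P = P) (hyQ : y • Q = Q) : x = y := by
  have hyi : y⁻¹ = y := inv_eq_of_mul_eq_one_left hy2
  have : y⁻¹ * x = 1 := by
    refine h.eq_one_of_commute hQ (by rw [mul_smul, hxP, inv_smul_eq_iff, hyP])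
      (by rw [mul_smul, hxQ, inv_smul_eq_iff, hyQ]) fun p hp => ?_
    rw [hyi]
    calc y * x * p = y * (x * p) * (x * x) := by rw [hx2, mul_one, mul_assoc]
      _ = y * (x * p * x) * x := by group
      _ = y * p⁻¹ * x := by rw [h.inv_of_involution hQ hx1 hx2 hxP hxQ hp]
      _ = y * (y * p * y) * x := by rw [h.inv_of_involution hQ hy1 hy2 hyP hyQ hp]
      _ = p * (y * x) := by rw [← mul_assoc y, ← mul_assoc y, hy2, one_mul, mul_assoc]
  exact (inv_mul_eq_one.mp this).symm

/-- The common stabiliser of two points. -/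
def pair (P Q : Sylow 17 H) : Subgroup H := stabilizer H P ⊓ stabilizer H Q

omit [Finite H] [Fact (Nat.Prime 17)] in
theorem mem_pair {P Q : Sylow 17 H} {x : H} : x ∈ pair P Q ↔ x • P = P ∧ x • Q = Q := Iff.rfl

theorem card_stab (h : Eighteen H) {P Q : Sylow 17 H} (hQ : Q ≠ P) :
    Nat.card (stabilizer H P) = 17 * Nat.card (pair P Q) := by
  have horb : orbit (stabilizer H P) Q = {R | R ≠ P} := by
    ext R
    constructor
    · rintro ⟨⟨x, hx⟩, rfl⟩ e
      exact hQ (smul_left_cancel x (e.trans (mem_stabilizer_iff.mp hx).symm))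
    · intro hR
      obtain ⟨p, hp, rfl⟩ := h.exists_smul_eq hQ hR
      exact ⟨⟨p, mem_stabilizer_iff.mpr (smul_self P hp)⟩, rfl⟩
  have hrel : (stabilizer H Q).relIndex (stabilizer H P) = 17 := by
    rw [SylowNum.relIndex_stabilizer_eq, horb]
    classical
    have := Fintype.ofFinite (Sylow 17 H)
    show Nat.card {R : Sylow 17 H // R ≠ P} = 17
    rw [Nat.card_eq_fintype_card, Fintype.card_subtype_compl, Fintype.card_subtype_eq,
      ← Nat.card_eq_fintype_card, h.card]
  have h2 := Subgroup.card_mul_index ((stabilizer H Q).subgroupOf (stabilizer H P))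
  rw [← Subgroup.relIndex, hrel, ← Subgroup.inf_subgroupOf_left,
    Nat.card_congr (Subgroup.subgroupOfEquivOfLe inf_le_left).toEquiv] at h2
  rw [← h2, mul_comm]
  rfl

theorem card_eq_mul (h : Eighteen H) {P Q : Sylow 17 H} (hQ : Q ≠ P) :
    Nat.card H = 306 * Nat.card (pair P Q) := by
  rw [← Subgroup.card_mul_index (stabilizer H P), index_stabilizer_of_transitive H P, h.card,
    h.card_stab hQ]
  ring

theorem card_pair_dvd (h : Eighteen H) {P Q : Sylow 17 H} (hQ : Q ≠ P) :
    Nat.card (pair P Q) ∣ 16 := by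
  have : IsCyclic (P : Subgroup H) := isCyclic_of_prime_card (p := 17) (h.card_sylow P)
  have hd := SylowNum.card_normalizer_dvd (P : Subgroup H)
  rw [h.card_sylow P, show Subgroup.centralizer ((P : Subgroup H) : Set H) = (P : Subgroup H) from
    le_antisymm (fun x hx => h.mem_of_commute fun p hp => (Subgroup.mem_centralizer_iff.mp hx p hp).symm)
      (Subgroup.le_centralizer _), h.card_sylow P] at hd
  rw [Sylow.coe_coe] at hd
  rw [SylowNum.normalizer_eq_stabilizer, h.card_stab hQ, Nat.totient_prime (Fact.out), mul_comm _ 17] at hd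
  exact Nat.dvd_of_mul_dvd_mul_left (by norm_num) hd

end Eighteen

end Cfsg.Agent.Classification.SylowEighteen
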