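import Cfsg.Agent.Classification.SylowEighteen.Basic

set_option autoImplicit false

/-! Counting incidences of elements and points. -/

namespace Cfsg.Agent.Classification.SylowEighteen.Eighteen

open MulAction Finset

variable {H : Type*} [Group H] [Finite H] [Fact (Nat.Prime 17)]
variable [Fintype H] [Fintype (Sylow 17 H)] [DecidableEq (Sylow 17 H)]

/-- The points fixed by an element. -/
def fixed (g : H) : Finset (Sylow 17 H) := univ.filter fun Q => g • Q = Q

theorem mem_fixed {g : H} {Q : Sylow 17 H} : Q ∈ fixed g ↔ g • Q = Q := by simp [fixed]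

theorem card_univ18 (h : Eighteen H) : (univ : Finset (Sylow 17 H)).card = 18 := by
  rw [card_univ, ← Nat.card_eq_fintype_card, h.card]

theorem card_fixed_le (h : Eighteen H) {g : H} (hg : g ≠ 1) : (fixed g).card ≤ 2 := by
  by_contra hc
  obtain ⟨a, b, c, ha, hb, hc', hab, hac, hbc⟩ := two_lt_card_iff.mp (not_le.mp hc)
  exact hg (h.eq_one_of_three hab.symm hac.symm hbc.symm (mem_fixed.mp ha) (mem_fixed.mp hb)
    (mem_fixed.mp hc'))

theorem card_fixed_involution (h : Eighteen H) {t : H} (ht : orderOf t = 2)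
    (hf : (fixed t).Nonempty) : (fixed t).card = 2 := by
  have ht1 : t ≠ 1 := fun e => by rw [e, orderOf_one] at ht; norm_num at ht
  have ht2 : t * t = 1 := by rw [← sq, ← ht, pow_orderOf_eq_one]
  set M := univ.filter fun Q : Sylow 17 H => ¬ t • Q = Q with hM
  have hsum : (fixed t).card + M.card = 18 := by
    rw [← h.card_univ18]; exact card_filter_add_card_filter_not _
  have heven : ((M.card : ℕ) : ZMod 2) = 0 := by
    rw [card_eq_sum_ones, Nat.cast_sum]
    refine sum_involution (fun Q _ => t • Q) (fun _ _ => by decide) (fun Q hQ _ => (mem_filter.mp hQ).2)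
      (fun Q hQ => mem_filter.mpr ⟨mem_univ _, fun e => (mem_filter.mp hQ).2 (smul_left_cancel t e)⟩)
      (fun Q _ => by rw [← mul_smul, ht2, one_smul])
  rw [ZMod.natCast_eq_zero_iff_even] at heven
  obtain ⟨m, hm⟩ := heven
  have := h.card_fixed_le ht1
  have := hf.card_pos
  omega

theorem card_stab_eq (h : Eighteen H) {k : ℕ} (hk : Nat.card H = 306 * k) (a : Sylow 17 H) :
    (univ.filter fun g : H => g • a = a).card = 17 * k := by
  obtain ⟨b, hb⟩ := h.exists_ne a
  have h1 : Nat.card (pair a b) = k := by have := h.card_eq_mul hb; omega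
  rw [← h1, ← h.card_stab hb, ← Fintype.card_subtype, ← Nat.card_eq_fintype_card]
  rfl

theorem card_pair_eq (h : Eighteen H) {k : ℕ} (hk : Nat.card H = 306 * k) {a b : Sylow 17 H}
    (hab : b ≠ a) : (univ.filter fun g : H => g • a = a ∧ g • b = b).card = k := by
  have h1 : Nat.card (pair a b) = k := by have := h.card_eq_mul hab; omega
  rw [← h1, ← Fintype.card_subtype, ← Nat.card_eq_fintype_card]
  rfl

/-- The involutions with fixed points. -/
noncomputable def invol : Finset H := univ.filter fun t => orderOf t = 2 ∧ (fixed t).Nonempty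

omit [Finite H] [Fact (Nat.Prime 17)] in
theorem mem_invol {t : H} : t ∈ invol ↔ orderOf t = 2 ∧ (fixed t).Nonempty := by simp [invol]

theorem card_offDiag18 (h : Eighteen H) : (univ : Finset (Sylow 17 H)).offDiag.card = 306 := by
  rw [offDiag_card, h.card_univ18]

theorem exists_pair_involution (h : Eighteen H) {k : ℕ} (hk : Nat.card H = 306 * k) (hev : Even k)
    {a b : Sylow 17 H} (hab : b ≠ a) : ∃ t ∈ (invol : Finset H), t • a = a ∧ t • b = b := by
  have h1 : Nat.card (pair a b) = k := by have := h.card_eq_mul hab; omega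
  obtain ⟨⟨t, ht⟩, hto⟩ := exists_prime_orderOf_dvd_card' (G := pair a b) 2 (h1 ▸ even_iff_two_dvd.mp hev)
  rw [Subgroup.orderOf_mk] at hto
  exact ⟨t, mem_invol.mpr ⟨hto, a, mem_fixed.mpr ht.1⟩, ht.1, ht.2⟩

theorem card_invol (h : Eighteen H) {k : ℕ} (hk : Nat.card H = 306 * k) (hev : Even k) :
    (invol : Finset H).card = 153 := by
  have key := card_mul_eq_card_mul (s := (invol : Finset H))
    (t := (univ : Finset (Sylow 17 H)).offDiag) (fun t ab => t • ab.1 = ab.1 ∧ t • ab.2 = ab.2)
    (m := 2) (n := 1) ?_ ?_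
  · rw [h.card_offDiag18] at key; omega
  · intro t ht
    obtain ⟨ht, hf⟩ := mem_invol.mp ht
    have : (univ : Finset (Sylow 17 H)).offDiag.bipartiteAbove
        (fun t ab => t • ab.1 = ab.1 ∧ t • ab.2 = ab.2) t = (fixed t).offDiag := by
      ext ⟨a, b⟩
      simp only [bipartiteAbove, mem_filter, mem_offDiag, mem_univ, true_and, mem_fixed]
      tauto
    rw [this, offDiag_card, h.card_fixed_involution ht hf]
  · rintro ⟨a, b⟩ hab
    have hab' : b ≠ a := fun e => (mem_offDiag.mp hab).2.2 e.symm
    obtain ⟨t, ht, hta, htb⟩ := h.exists_pair_involution hk hev hab'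
    refine card_eq_one.mpr ⟨t, ext fun s => ?_⟩
    simp only [bipartiteBelow, mem_filter, mem_singleton]
    refine ⟨fun ⟨hs, hsa, hsb⟩ => ?_, fun e => e ▸ ⟨ht, hta, htb⟩⟩
    have hso := (mem_invol.mp hs).1
    have hto := (mem_invol.mp ht).1
    refine h.involution_unique hab' (fun e => ?_) ?_ (fun e => ?_) ?_ hsa hsb hta htb
    · rw [e, orderOf_one] at hso; norm_num at hso
    · rw [← sq, ← hso, pow_orderOf_eq_one]
    · rw [e, orderOf_one] at hto; norm_num at hto
    · rw [← sq, ← hto, pow_orderOf_eq_one]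

theorem card_swap_le (h : Eighteen H) {k : ℕ} (hk : Nat.card H = 306 * k) {a b : Sylow 17 H}
    (hab : b ≠ a) (s : Finset H) (hs : ∀ g ∈ s, g • a = b ∧ g • b = a) : s.card ≤ k := by
  rcases s.eq_empty_or_nonempty with rfl | ⟨g0, hg0⟩
  · simp
  rw [← h.card_pair_eq hk hab]
  refine card_le_card_of_injOn (fun g => g0⁻¹ * g) (fun g hg => ?_) (fun _ _ _ _ e => mul_left_cancel e)
  rw [mem_coe, mem_filter]
  exact ⟨mem_univ _, by rw [mul_smul, (hs g hg).1, inv_smul_eq_iff, (hs g0 hg0).1],
    by rw [mul_smul, (hs g hg).2, inv_smul_eq_iff, (hs g0 hg0).2]⟩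

theorem swap_sum [DecidableEq H] (h : Eighteen H) {k : ℕ} (hk : Nat.card H = 306 * k) (hev : Even k) :
    ∑ ab ∈ (univ : Finset (Sylow 17 H)).offDiag,
      (invol.filter fun g : H => g • ab.1 = ab.2 ∧ g • ab.2 = ab.1).card = 2448 := by
  have := sum_card_bipartiteAbove_eq_sum_card_bipartiteBelow (s := (invol : Finset H))
    (t := (univ : Finset (Sylow 17 H)).offDiag) (fun g ab => g • ab.1 = ab.2 ∧ g • ab.2 = ab.1)
  refine this.symm.trans ?_
  rw [sum_congr rfl (g := fun _ => 16) fun t ht => ?_, sum_const, h.card_invol hk hev, smul_eq_mul]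
  obtain ⟨hto, hf⟩ := mem_invol.mp ht
  have ht2 : t * t = 1 := by rw [← sq, ← hto, pow_orderOf_eq_one]
  have hset : (univ : Finset (Sylow 17 H)).offDiag.bipartiteAbove
      (fun g ab => g • ab.1 = ab.2 ∧ g • ab.2 = ab.1) t =
      (univ.filter fun a => ¬ t • a = a).image fun a => (a, t • a) := by
    ext ⟨a, b⟩
    simp only [bipartiteAbove, mem_filter, mem_offDiag, mem_univ, true_and, mem_image, Prod.mk.injEq]
    constructor
    · rintro ⟨hne, h1, _⟩
      exact ⟨a, fun e => hne (e.symm.trans h1), rfl, h1⟩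
    · rintro ⟨x, hx, rfl, rfl⟩
      exact ⟨fun e => hx e.symm, rfl, by rw [← mul_smul, ht2, one_smul]⟩
  rw [hset, card_image_of_injective _ (fun x y e => (Prod.ext_iff.mp e).1)]
  have hsum : (fixed t).card + (univ.filter fun a : Sylow 17 H => ¬ t • a = a).card = 18 := by
    rw [← h.card_univ18]; exact card_filter_add_card_filter_not _
  have := h.card_fixed_involution hto hf
  omega

theorem eight_le [DecidableEq H] (h : Eighteen H) {k : ℕ} (hk : Nat.card H = 306 * k) (hev : Even k) : 8 ≤ k := by
  have h1 := h.swap_sum hk hev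
  have h2 := sum_le_card_nsmul (univ : Finset (Sylow 17 H)).offDiag
    (fun ab => (invol.filter fun g : H => g • ab.1 = ab.2 ∧ g • ab.2 = ab.1).card) k
    (fun ab hab => h.card_swap_le hk (fun e => (mem_offDiag.mp hab).2.2 e.symm) _
      (fun g hg => (mem_filter.mp hg).2))
  rw [h1, h.card_offDiag18, smul_eq_mul] at h2
  omega

theorem mem_invol_of_swap [DecidableEq H] (h : Eighteen H) (hk : Nat.card H = 2448) {a b : Sylow 17 H}
    (hab : b ≠ a) {g : H} (ha : g • a = b) (hb : g • b = a) : g ∈ (invol : Finset H) := by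
  have hk' : Nat.card H = 306 * 8 := hk
  have h1 := h.swap_sum hk' ⟨4, rfl⟩
  have hle : ∀ ab ∈ (univ : Finset (Sylow 17 H)).offDiag,
      (invol.filter fun g : H => g • ab.1 = ab.2 ∧ g • ab.2 = ab.1).card ≤ 8 := fun ab hab' =>
    h.card_swap_le hk' (fun e => (mem_offDiag.mp hab').2.2 e.symm) _ (fun g hg => (mem_filter.mp hg).2)
  have h8 := (sum_eq_sum_iff_of_le hle).mp (by rw [h1, sum_const, h.card_offDiag18, smul_eq_mul])
    (a, b) (mem_offDiag.mpr ⟨mem_univ _, mem_univ _, fun e => hab e.symm⟩)
  by_contra hg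
  have h9 := h.card_swap_le hk' hab (insert g (invol.filter fun g : H => g • a = b ∧ g • b = a))
    fun x hx => (mem_insert.mp hx).elim (fun e => e ▸ ⟨ha, hb⟩) fun hx => (mem_filter.mp hx).2
  rw [card_insert_of_notMem fun e => hg (mem_filter.mp e).1] at h9
  simp only at h8
  omega

theorem fixed_nonempty_of_even [DecidableEq H] (h : Eighteen H) (hk : Nat.card H = 2448) {g : H}
    (hg : 2 ∣ orderOf g) : (fixed g).Nonempty := by
  set t := g ^ (orderOf g / 2) with htdef
  have hto : orderOf t = 2 := orderOf_pow_orderOf_div (orderOf_pos g).ne' hg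
  have ht2 : t * t = 1 := by rw [← sq, ← hto, pow_orderOf_eq_one]
  have htf : (fixed t).Nonempty := by
    obtain ⟨a⟩ := (inferInstance : Nonempty (Sylow 17 H))
    by_cases hta : t • a = a
    · exact ⟨a, mem_fixed.mpr hta⟩
    · exact (mem_invol.mp (h.mem_invol_of_swap hk hta rfl (by rw [← mul_smul, ht2, one_smul]))).2
  obtain ⟨a, b, hne, hfix⟩ := card_eq_two.mp (h.card_fixed_involution hto htf)
  have hc : g * t = t * g := ((Commute.refl g).pow_right _).eq
  have hmap : ∀ x ∈ fixed t, g • x ∈ fixed t := fun x hx => by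
    rw [mem_fixed, ← mul_smul, ← hc, mul_smul, mem_fixed.mp hx]
  have ha := hmap a (by rw [hfix]; simp)
  have hb := hmap b (by rw [hfix]; simp)
  rw [hfix, mem_insert, mem_singleton] at ha hb
  rcases ha with ha | ha
  · exact ⟨a, mem_fixed.mpr ha⟩
  · rcases hb with hb | hb
    · exact (mem_invol.mp (h.mem_invol_of_swap hk hne.symm ha hb)).2
    · exact ⟨b, mem_fixed.mpr hb⟩

theorem card_free [DecidableEq H] (h : Eighteen H) (hk : Nat.card H = 2448) :
    (univ.filter fun g : H => fixed g = ∅).card = 1088 := by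
  have hk' : Nat.card H = 306 * 8 := hk
  have h1 : ∑ g : H, (fixed g).card = 2448 := by
    have := sum_card_bipartiteAbove_eq_sum_card_bipartiteBelow (s := (univ : Finset H))
      (t := (univ : Finset (Sylow 17 H))) (fun (g : H) (Q : Sylow 17 H) => g • Q = Q)
    refine this.trans ?_
    rw [sum_congr rfl (g := fun _ => 136) fun a _ => by
      show (univ.filter fun g : H => g • a = a).card = 136
      rw [h.card_stab_eq hk' a], sum_const, h.card_univ18, smul_eq_mul]
  have h2 : ∑ g : H, (fixed g).card ^ 2 = 4896 := by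
    have := sum_card_bipartiteAbove_eq_sum_card_bipartiteBelow (s := (univ : Finset H))
      (t := (univ : Finset (Sylow 17 H)) ×ˢ univ) (fun (g : H) (ab : Sylow 17 H × Sylow 17 H) => g • ab.1 = ab.1 ∧ g • ab.2 = ab.2)
    have e : ∀ g : H, ((univ : Finset (Sylow 17 H)) ×ˢ univ).bipartiteAbove
        (fun (g : H) (ab : Sylow 17 H × Sylow 17 H) => g • ab.1 = ab.1 ∧ g • ab.2 = ab.2) g = fixed g ×ˢ fixed g := fun g => by
      ext ⟨a, b⟩
      simp [bipartiteAbove, mem_fixed]
    simp only [e, card_product, ← sq] at this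
    rw [this, sum_product]
    have inner : ∀ a : Sylow 17 H, ∑ b : Sylow 17 H,
        ((univ : Finset H).bipartiteBelow (fun g (ab : Sylow 17 H × Sylow 17 H) =>
          g • ab.1 = ab.1 ∧ g • ab.2 = ab.2) (a, b)).card = 272 := fun a => by
      rw [← sum_erase_add _ _ (mem_univ a), sum_congr rfl (g := fun _ => 8) fun b hb => by
          show (univ.filter fun g : H => g • a = a ∧ g • b = b).card = 8
          rw [h.card_pair_eq hk' (ne_of_mem_erase hb)],
        sum_const, card_erase_of_mem (mem_univ a), h.card_univ18, smul_eq_mul]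
      show 136 + (univ.filter fun g : H => g • a = a ∧ g • a = a).card = 272
      simp only [and_self, h.card_stab_eq hk' a]
    rw [sum_congr rfl (g := fun _ => 272) fun a _ => inner a, sum_const, h.card_univ18, smul_eq_mul]
  have hpt : ∀ g : H, (fixed g).card ^ 2 + 2 =
      3 * (fixed g).card + ((if g = 1 then 272 else 0) + 2 * if fixed g = ∅ then 1 else 0) := by
    intro g
    by_cases hg : g = 1
    · subst hg
      have : fixed (1 : H) = univ := by ext; simp [mem_fixed]
      rw [if_pos rfl, this, h.card_univ18, if_neg (by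
        intro e
        have := h.card_univ18
        rw [e] at this
        simp at this)]
      norm_num
    · have := h.card_fixed_le hg
      rw [if_neg hg]
      rcases (fixed g).eq_empty_or_nonempty with e | e
      · simp [e]
      · rw [if_neg e.ne_empty]
        have := e.card_pos
        interval_cases (fixed g).card <;> simp
  have hs := sum_congr rfl (s₁ := (univ : Finset H)) fun g _ => hpt g
  rw [sum_add_distrib, sum_add_distrib, sum_add_distrib, ← mul_sum, ← mul_sum, h1, h2, sum_const,
    sum_ite_eq' univ (1 : H), if_pos (mem_univ _), card_univ, ← Nat.card_eq_fintype_card, hk,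
    ← card_filter] at hs
  simp only [smul_eq_mul] at hs
  omega

end Cfsg.Agent.Classification.SylowEighteen.Eighteen
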