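import Cfsg.Agent.Classification.SylowEighteen.Unique
import Cfsg.Agent.Lib.PGroup.Basic

set_option autoImplicit false

/-! Groups with Sylow numbers 18, 136, 153 and trivial centre. -/

namespace Cfsg.Agent.Classification.SylowEighteen

open MulAction
open scoped Pointwise

variable {G : Type*} [Group G] [Finite G]

theorem mapSurjective_smul {K : Type*} [Group K] [Finite K] {p : ℕ} [Fact p.Prime] {f : G →* K}
    (hf : Function.Surjective f) (g : G) (P : Sylow p G) :
    Sylow.mapSurjective hf (g • P) = f g • Sylow.mapSurjective hf P := by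
  refine Sylow.ext ?_
  rw [Sylow.coe_subgroup_smul, Sylow.coe_mapSurjective, Sylow.coe_mapSurjective, Sylow.coe_subgroup_smul]
  exact map_conj_smul f g _

theorem normalizes_of_card_eq (K : Subgroup G) [K.Normal] {p : ℕ} [Fact p.Prime]
    (h : Nat.card (Sylow p (G ⧸ K)) = Nat.card (Sylow p G)) :
    ∀ k ∈ K, ∀ R : Sylow p G, k • R = R := by
  have hs := QuotientGroup.mk'_surjective K
  have hbij := (Nat.bijective_iff_surjective_and_card (Sylow.mapSurjective hs (p := p))).mpr
    ⟨Sylow.mapSurjective_surjective hs p, h.symm⟩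
  intro k hk R
  refine hbij.1 ?_
  rw [mapSurjective_smul hs, show QuotientGroup.mk' K k = 1 from (QuotientGroup.eq_one_iff k).mpr hk,
    one_smul]

theorem card_sylow_le_of_subgroup {p : ℕ} [Fact p.Prime] (L : Subgroup G) :
    Nat.card (Sylow p L) ≤ Nat.card (Sylow p G) := by
  choose f hf using fun R : Sylow p L => R.exists_comap_subtype_eq
  exact Nat.card_le_card_of_injective f fun A B e => Sylow.ext (by rw [← hf A, ← hf B, e])

theorem inter_normal (K : Subgroup G) [K.Normal] {p : ℕ} [Fact p.Prime]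
    (h : ∀ k ∈ K, ∀ R : Sylow p G, k • R = R) (R : Sylow p G) : ((R : Subgroup G) ⊓ K).Normal := by
  refine ⟨fun x hx g => ?_⟩
  obtain ⟨hxR, hxK⟩ := Subgroup.mem_inf.mp hx
  refine Subgroup.mem_inf.mpr ⟨?_, Subgroup.Normal.conj_mem inferInstance x hxK g⟩
  have hle : (R : Subgroup G) ⊓ K ≤ Subgroup.normalizer ((g⁻¹ • R : Sylow p G) : Set G) :=
    fun y hy => Sylow.smul_eq_iff_mem_normalizer.mp (h y (Subgroup.mem_inf.mp hy).2 _)
  have h2 : (R : Subgroup G) ⊓ K ≤ ((g⁻¹ • R : Sylow p G) : Subgroup G) := by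
    rw [← inf_eq_left, ← (R.isPGroup'.to_inf_left (K := K)).inf_normalizer_sylow (g⁻¹ • R), inf_eq_left]
    exact hle
  obtain ⟨y, hy, e⟩ := h2 (Subgroup.mem_inf.mpr ⟨hxR, hxK⟩)
  have : g * x * g⁻¹ = y := by
    rw [← e]
    show g * (MulAut.conj g⁻¹ y) * g⁻¹ = y
    simp [mul_assoc]
  rw [this]
  exact hy

theorem sylow_kernel_dvd {p : ℕ} [Fact p.Prime] (K : Subgroup G) [K.Normal] (R : Sylow p G) :
    ¬ p ∣ ((R : Subgroup G) ⊓ K).relIndex K :=
  SylowNum.relIndex_inf_normal_not_dvd K R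

/-- A normal `i`-subgroup normalises a Sylow `r`-subgroup when the orbit size is forced to be one. -/
theorem le_normalizer_of_dvd {i r : ℕ} [Fact i.Prime] [Fact r.Prime] (Q : Subgroup G) [Q.Normal]
    (hQ : IsPGroup i Q) (S : Sylow r G)
    (hnum : ∀ d : ℕ, d ∣ Nat.card (Sylow r G) → d % r = 1 → (∃ e, d = i ^ e) → d = 1) :
    Q ≤ Subgroup.normalizer ((S : Subgroup G) : Set G) := by
  set N := Subgroup.normalizer ((S : Subgroup G) : Set G) with hNdef
  have h1 : N.relIndex (N ⊔ Q) * (N ⊔ Q).index = N.index := Subgroup.relIndex_mul_index le_sup_left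
  have hNidx : N.index = Nat.card (Sylow r G) := by
    rw [S.card_eq_index_normalizer, hNdef, Sylow.coe_coe]
  set d := N.relIndex (N ⊔ Q) with hd
  have hd1 : d ∣ Nat.card (Sylow r G) := hNidx ▸ h1 ▸ dvd_mul_right _ _
  have hd2 : d % r = 1 := by
    have h3 := SylowNum.card_sylow_subgroup S (H := N ⊔ Q) (Subgroup.le_normalizer.trans le_sup_left)
    rw [← Sylow.coe_coe, ← hNdef, ← hd] at h3
    have h4 := card_sylow_modEq_one r ↥(N ⊔ Q)
    rw [h3] at h4
    exact Eq.trans h4 (Nat.one_mod_eq_one.mpr (Fact.out : r.Prime).one_lt.ne')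
  have hd3 : ∃ e, d = i ^ e := by
    have h5 : Q.relIndex (N ⊔ Q) = Q.relIndex N := Subgroup.relIndex_sup_right N Q
    have e1 := Subgroup.card_mul_index (Q.subgroupOf (N ⊔ Q))
    rw [← Subgroup.relIndex, h5, Nat.card_congr (Subgroup.subgroupOfEquivOfLe le_sup_right).toEquiv] at e1
    have e2 := Subgroup.card_mul_index (N.subgroupOf (N ⊔ Q))
    rw [← Subgroup.relIndex, ← hd, Nat.card_congr (Subgroup.subgroupOfEquivOfLe le_sup_left).toEquiv] at e2
    have e3 := Subgroup.card_mul_index (Q.subgroupOf N)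
    rw [← Subgroup.relIndex] at e3
    set a := Nat.card (Q.subgroupOf N)
    have hkey : a * d = Nat.card Q := by
      have hN0 : 0 < Nat.card N := Nat.card_pos
      refine Nat.eq_of_mul_eq_mul_left hN0 ?_
      calc Nat.card N * (a * d) = a * (Nat.card N * d) := by ring
        _ = a * (Nat.card Q * Q.relIndex N) := by rw [e2, e1]
        _ = Nat.card N * Nat.card Q := by rw [← e3]; ring
    obtain ⟨n, hn⟩ := IsPGroup.iff_card.mp hQ
    obtain ⟨e, -, he⟩ := (Nat.dvd_prime_pow Fact.out).mp (show d ∣ i ^ n from hn ▸ hkey ▸ dvd_mul_left _ _)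
    exact ⟨e, he⟩
  have := hnum d hd1 hd2 hd3
  rw [hd, Subgroup.relIndex_eq_one] at this
  exact le_sup_right.trans this

theorem mem_list_of_dvd (hNS : {c : ℕ | ∃ r : ℕ, r.Prime ∧ r ∣ Nat.card G ∧ c = Nat.card (Sylow r G)} =
    ({18, 136, 153} : Set ℕ)) {r : ℕ} [hr : Fact r.Prime] (hd : r ∣ Nat.card G) :
    (Nat.card (Sylow r G) = 18 ∧ r = 17) ∨ (Nat.card (Sylow r G) = 136 ∧ (r = 3 ∨ r = 5)) ∨
      (Nat.card (Sylow r G) = 153 ∧ (r = 2 ∨ r = 19)) := by
  have hm : Nat.card (Sylow r G) ∈ ({18, 136, 153} : Set ℕ) := by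
    rw [← hNS]; exact ⟨r, hr.out, hd, rfl⟩
  have hmod := card_sylow_modEq_one r G
  simp only [Set.mem_insert_iff, Set.mem_singleton_iff] at hm
  have key : ∀ n : ℕ, 1 < n → Nat.card (Sylow r G) = n → r ∈ (n - 1).divisors := fun n hn e => by
    rw [e] at hmod
    exact Nat.mem_divisors.mpr ⟨(Nat.modEq_iff_dvd' hn.le).mp hmod.symm, by omega⟩
  have hp := hr.out
  rcases hm with e | e | e
  · refine Or.inl ⟨e, ?_⟩
    have := key 18 (by norm_num) e
    rw [show (18 - 1 : ℕ).divisors = {1, 17} by decide] at this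
    simp only [Finset.mem_insert, Finset.mem_singleton] at this
    rcases this with rfl | rfl <;> first | omega | (norm_num at hp)
  · refine Or.inr (Or.inl ⟨e, ?_⟩)
    have := key 136 (by norm_num) e
    rw [show (136 - 1 : ℕ).divisors = {1, 3, 5, 9, 15, 27, 45, 135} by decide +kernel] at this
    simp only [Finset.mem_insert, Finset.mem_singleton] at this
    rcases this with rfl | rfl | rfl | rfl | rfl | rfl | rfl | rfl <;> first | omega | (norm_num at hp)
  · refine Or.inr (Or.inr ⟨e, ?_⟩)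
    have := key 153 (by norm_num) e
    rw [show (153 - 1 : ℕ).divisors = {1, 2, 4, 8, 19, 38, 76, 152} by decide +kernel] at this
    simp only [Finset.mem_insert, Finset.mem_singleton] at this
    rcases this with rfl | rfl | rfl | rfl | rfl | rfl | rfl | rfl <;> first | omega | (norm_num at hp)

theorem ker_eq_bot (hZ : Subgroup.center G = ⊥)
    (hNS : {c : ℕ | ∃ r : ℕ, r.Prime ∧ r ∣ Nat.card G ∧ c = Nat.card (Sylow r G)} =
      ({18, 136, 153} : Set ℕ))
    (K : Subgroup G) [K.Normal] (hidx : K.index ∣ 4896)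
    (hnorm : ∀ i : ℕ, i ∈ ({2, 3, 17} : Finset ℕ) → ∀ [Fact i.Prime],
      ∀ k ∈ K, ∀ R : Sylow i G, k • R = R) : K = ⊥ := by
  -- the order of `G` involves only `2`, `3`, `17`
  have hπ : ∀ r : ℕ, r.Prime → r ∣ Nat.card G → r ∈ ({2, 3, 17} : Finset ℕ) := by
    intro r hr hd
    have := Fact.mk hr
    obtain ⟨S⟩ := (inferInstance : Nonempty (Sylow r G))
    have kill : ∀ i n : ℕ, i.Prime → i ∈ ({2, 3, 17} : Finset ℕ) → i ∣ n →
        Nat.card (Sylow r G) = n → ¬ r ∣ 4896 →
        (∀ d ∈ n.divisors, d % r = 1 → d = 1 ∨ d = n) → (∀ e : ℕ, n ≠ i ^ e) → False := by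
      intro i n hi hmem hin hn hr4 hlist hpow
      have := Fact.mk hi
      obtain ⟨R⟩ := (inferInstance : Nonempty (Sylow i G))
      have hQn := inter_normal K (hnorm i hmem) R
      have hSK : (S : Subgroup G) ≤ K := by
        intro x hx
        rw [← QuotientGroup.eq_one_iff, ← orderOf_eq_one_iff]
        obtain ⟨e, he⟩ := IsPGroup.iff_card.mp S.isPGroup'
        have h1 : orderOf (x : G ⧸ K) ∣ r ^ e :=
          ((orderOf_map_dvd (QuotientGroup.mk' K) x).trans
            (by rw [← Subgroup.orderOf_mk x hx]; exact (orderOf_dvd_natCard _).trans (he ▸ dvd_rfl)))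
        have h2 : orderOf (x : G ⧸ K) ∣ 4896 :=
          (orderOf_dvd_natCard _).trans hidx
        exact Nat.eq_one_of_dvd_coprimes (Nat.Coprime.pow_left e ((Nat.Prime.coprime_iff_not_dvd hr).mpr hr4)) h1 h2
      have hQN : (R : Subgroup G) ⊓ K ≤ Subgroup.normalizer ((S : Subgroup G) : Set G) := by
        refine le_normalizer_of_dvd ((R : Subgroup G) ⊓ K) (R.isPGroup'.to_inf_left) S fun d hd hdm hde => ?_
        rw [hn] at hd
        have hn0 : n ≠ 0 := fun h0 => by
          have := Nat.card_pos (α := Sylow r G)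
          omega
        rcases hlist d (Nat.mem_divisors.mpr ⟨hd, hn0⟩) hdm with h | h
        · exact h
        · obtain ⟨e, he⟩ := hde
          exact absurd (h.symm.trans he) (hpow e)
      have hidxn : (Subgroup.normalizer ((S : Subgroup G) : Set G)).relIndex K = n := by
        rw [← hn, Sylow.coe_coe, ← SylowNum.card_sylow_subgroup S hSK]
        refine le_antisymm (card_sylow_le_of_subgroup K) ?_
        refine Nat.card_le_card_of_injective (fun T : Sylow r G => T.subtype (?_ : (T : Subgroup G) ≤ K)) ?_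
        · obtain ⟨g, rfl⟩ := exists_smul_eq G S T
          rintro _ ⟨y, hy, rfl⟩
          exact Subgroup.Normal.conj_mem inferInstance y (hSK hy) g
        · exact fun A B e => Sylow.subtype_injective e
      have h1 := Subgroup.relIndex_dvd_of_le_left K
        (le_inf hQN inf_le_right : (R : Subgroup G) ⊓ K ≤ Subgroup.normalizer ((S : Subgroup G) : Set G) ⊓ K)
      rw [Subgroup.inf_relIndex_right, hidxn] at h1
      exact sylow_kernel_dvd K R (hin.trans h1)
    rcases mem_list_of_dvd hNS hd with ⟨-, rfl⟩ | ⟨e, rfl | rfl⟩ | ⟨e, rfl | rfl⟩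
    · simp
    · simp
    · exact (kill 2 136 Nat.prime_two (by simp) (by norm_num) e (by norm_num) (by decide +kernel) fun e he => by
        have : 17 ∣ 2 ^ e := he ▸ (by norm_num)
        exact absurd ((Nat.prime_dvd_prime_iff_eq (by norm_num) Nat.prime_two).mp
          ((by norm_num : Nat.Prime 17).dvd_of_dvd_pow this)) (by norm_num)).elim
    · simp
    · exact (kill 3 153 Nat.prime_three (by simp) (by norm_num) e (by norm_num) (by decide +kernel) fun e he => by
        have : 17 ∣ 3 ^ e := he ▸ (by norm_num)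
        exact absurd ((Nat.prime_dvd_prime_iff_eq (by norm_num) Nat.prime_three).mp
          ((by norm_num : Nat.Prime 17).dvd_of_dvd_pow this)) (by norm_num)).elim
  -- each Sylow part of the kernel is central
  have hbot : ∀ (i : ℕ) [Fact i.Prime], i ∈ ({2, 3, 17} : Finset ℕ) → ∀ R : Sylow i G,
      (R : Subgroup G) ⊓ K = ⊥ := by
    intro i hi hmem R
    by_contra hne
    have hn := inter_normal K (hnorm i hmem) R
    have hne' : ((R : Subgroup G) ⊓ K).subgroupOf R ≠ ⊥ := fun e => by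
      rw [Subgroup.subgroupOf_eq_bot, disjoint_iff, inf_assoc, inf_comm K, ← inf_assoc, inf_idem] at e
      exact hne e
    obtain ⟨z, hz, hz1⟩ := (Subgroup.bot_or_exists_ne_one _).resolve_left
      (PGroup.inf_center_ne_bot R.isPGroup' hne')
    obtain ⟨hzQ, hzc⟩ := Subgroup.mem_inf.mp hz
    have hzQ' : (z : G) ∈ (R : Subgroup G) ⊓ K := hzQ
    refine hz1 (Subtype.ext ((Subgroup.mem_bot).mp (hZ ▸ ?_ : (z : G) ∈ (⊥ : Subgroup G))))
    have hC : ∀ (j : ℕ) [Fact j.Prime], j ∣ Nat.card G → ∃ T : Sylow j G,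
        (T : Subgroup G) ≤ Subgroup.centralizer {(z : G)} := by
      intro j hjp hj
      by_cases hji : j = i
      · subst hji
        exact ⟨R, fun x hx => Subgroup.mem_centralizer_singleton_iff.mpr
          (congrArg Subtype.val (Subgroup.mem_center_iff.mp hzc ⟨x, hx⟩))⟩
      · obtain ⟨T⟩ := (inferInstance : Nonempty (Sylow j G))
        refine ⟨T, fun x hx => Subgroup.mem_centralizer_singleton_iff.mpr ?_⟩
        have h1 : (z : G) * x * (z : G)⁻¹ * x⁻¹ ∈ (T : Subgroup G) := mul_mem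
          ((Subgroup.mem_normalizer_iff.mp (Sylow.smul_eq_iff_mem_normalizer.mp
            (hnorm j (hπ j hjp.out hj) z (Subgroup.mem_inf.mp hzQ').2 T)) x).mp hx) (inv_mem hx)
        have h2 : (z : G) * x * (z : G)⁻¹ * x⁻¹ ∈ (R : Subgroup G) ⊓ K := by
          have := mul_mem hzQ' (hn.conj_mem _ (inv_mem hzQ') x)
          simpa [mul_assoc] using this
        have h3 : (z : G) * x * (z : G)⁻¹ * x⁻¹ = 1 := by
          have hd := IsPGroup.disjoint_of_ne j i hji (T : Subgroup G) (R : Subgroup G) T.isPGroup' R.isPGroup'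
          exact Subgroup.mem_bot.mp (hd.le_bot ⟨h1, (Subgroup.mem_inf.mp h2).1⟩)
        exact (mul_inv_eq_iff_eq_mul.mp (mul_inv_eq_one.mp h3)).symm
    have htop : Subgroup.centralizer {(z : G)} = ⊤ := by
      refine Subgroup.eq_top_of_card_eq _ (Nat.dvd_antisymm (Subgroup.card_subgroup_dvd_card _) ?_)
      refine (Nat.dvd_iff_prime_pow_dvd_dvd _ _).mpr fun j k hj hjk => ?_
      have := Fact.mk hj
      rcases k.eq_zero_or_pos with rfl | hk
      · simp
      obtain ⟨T, hT⟩ := hC j ((dvd_pow_self j hk.ne').trans hjk)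
      exact (T.pow_dvd_card_of_pow_dvd_card hjk).trans (Subgroup.card_dvd_of_le hT)
    rw [Subgroup.mem_center_iff]
    exact fun g => Subgroup.mem_centralizer_singleton_iff.mp (htop ▸ Subgroup.mem_top g)
  rw [Subgroup.eq_bot_iff_card]
  by_contra h1
  obtain ⟨i, hi, hid⟩ := Nat.exists_prime_and_dvd h1
  have := Fact.mk hi
  obtain ⟨R⟩ := (inferInstance : Nonempty (Sylow i G))
  have := hbot i (hπ i hi (hid.trans K.card_subgroup_dvd_card)) R
  have h2 := sylow_kernel_dvd K R
  rw [this, Subgroup.relIndex_bot_left] at h2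
  exact h2 hid

theorem main (hZ : Subgroup.center G = ⊥)
    (hNS : {c : ℕ | ∃ r : ℕ, r.Prime ∧ r ∣ Nat.card G ∧ c = Nat.card (Sylow r G)} =
      ({18, 136, 153} : Set ℕ))
    {F : Type*} [Field F] [Fintype F] (hF : Fintype.card F = 17) :
    Nonempty (G ≃* Matrix.ProjectiveSpecialLinearGroup (Fin 2) F) ∨
      Nonempty (G ≃* (GL (Fin 2) F ⧸ Subgroup.center (GL (Fin 2) F))) := by
  have : Fact (Nat.Prime 17) := ⟨by norm_num⟩
  obtain ⟨r, hr, hrd, hrn⟩ : (18 : ℕ) ∈
      {c : ℕ | ∃ r : ℕ, r.Prime ∧ r ∣ Nat.card G ∧ c = Nat.card (Sylow r G)} := by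
    rw [hNS]; simp
  have h17 : Nat.card (Sylow 17 G) = 18 := by
    have := Fact.mk hr
    rcases mem_list_of_dvd hNS hrd with ⟨e, rfl⟩ | ⟨e, -⟩ | ⟨e, -⟩
    · exact e
    · omega
    · omega
  set K := (MulAction.toPermHom G (Sylow 17 G)).ker with hKdef
  have hK : ∀ k ∈ K, ∀ R : Sylow 17 G, k • R = R := fun k hk R =>
    congrArg (fun σ : Equiv.Perm (Sylow 17 G) => σ R) (MonoidHom.mem_ker.mp hk)
  have hs := QuotientGroup.mk'_surjective K
  have hbij : Function.Bijective (Sylow.mapSurjective hs (p := 17)) := by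
    refine ⟨fun P Q e => ?_, Sylow.mapSurjective_surjective hs 17⟩
    have e' := congrArg (fun T : Sylow 17 (G ⧸ K) => (T : Subgroup (G ⧸ K)).comap (QuotientGroup.mk' K)) e
    simp only [Sylow.coe_mapSurjective, Subgroup.comap_map_eq, QuotientGroup.ker_mk'] at e'
    have h1 : (P : Subgroup G) ≤ Subgroup.normalizer ((Q : Subgroup G) : Set G) := by
      refine le_trans (le_sup_left (b := K)) (e'.le.trans (sup_le Subgroup.le_normalizer fun k hk => ?_))
      exact Sylow.smul_eq_iff_mem_normalizer.mp (hK k hk Q)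
    have h2 : (P : Subgroup G) ≤ Q := by
      rw [← inf_eq_left, ← P.isPGroup'.inf_normalizer_sylow Q, inf_eq_left, ← Sylow.coe_coe]
      exact h1
    exact (Sylow.ext (P.is_maximal' Q.isPGroup' h2)).symm
  have hE : Eighteen (G ⧸ K) := by
    refine ⟨by rw [← Nat.card_eq_of_bijective _ hbij, h17], fun x hx => ?_⟩
    obtain ⟨g, rfl⟩ := hs x
    refine (QuotientGroup.eq_one_iff g).mpr (MonoidHom.mem_ker.mpr (Equiv.ext fun R => hbij.1 ?_))
    show Sylow.mapSurjective hs (g • R) = Sylow.mapSurjective hs R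
    rw [mapSurjective_smul hs]
    exact hx _
  -- the Sylow numbers of the quotient
  have hcases := hE.card_cases
  have hgl := hE.card_gen
  have hq : ∀ i n : ℕ, ∀ [Fact i.Prime], Nat.card (Sylow i (sylowGen (G ⧸ K))) = n →
      Nat.card (Sylow i G) ≤ n → Nat.card (Sylow i (G ⧸ K)) = Nat.card (Sylow i G) := by
    intro i n _ h1 h2
    have h3 := card_sylow_le_of_subgroup (p := i) (sylowGen (G ⧸ K))
    have h4 : Nat.card (Sylow i (G ⧸ K)) ≤ Nat.card (Sylow i G) :=
      Nat.card_le_card_of_surjective _ (Sylow.mapSurjective_surjective hs i)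
    omega
  have hdvd : ∀ i, i ∣ 2448 → i ∣ Nat.card G := fun i hi => by
    have : (2448 : ℕ) ∣ Nat.card (G ⧸ K) := hgl ▸ Subgroup.card_subgroup_dvd_card _
    exact hi.trans (this.trans (Subgroup.card_quotient_dvd_card K))
  have hnorm : ∀ i : ℕ, i ∈ ({2, 3, 17} : Finset ℕ) → ∀ [Fact i.Prime],
      ∀ k ∈ K, ∀ R : Sylow i G, k • R = R := by
    intro i hi _
    simp only [Finset.mem_insert, Finset.mem_singleton] at hi
    rcases hi with rfl | rfl | rfl
    · refine normalizes_of_card_eq K (hq 2 153 (hE.gen.card_sylow_two hgl) ?_)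
      rcases mem_list_of_dvd hNS (r := 2) (hdvd 2 (by norm_num)) with ⟨e, h⟩ | ⟨e, h | h⟩ | ⟨e, -⟩ <;> omega
    · refine normalizes_of_card_eq K (hq 3 136 (hE.gen.card_sylow_three hgl) ?_)
      rcases mem_list_of_dvd hNS (r := 3) (hdvd 3 (by norm_num)) with ⟨e, h⟩ | ⟨e, -⟩ | ⟨e, h | h⟩ <;> omega
    · exact hK
  have hidx : K.index ∣ 4896 := by
    rw [Subgroup.index_eq_card]
    rcases hcases with e | e <;> rw [e] <;> norm_num
  have hbot := ker_eq_bot hZ hNS K hidx hnorm
  let eG : G ≃* G ⧸ K := (QuotientGroup.quotientBot).symm.trans (QuotientGroup.quotientMulEquivOfEq hbot.symm)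
  obtain ⟨ψ⟩ := hE.gen_equiv_psl hF
  rcases hcases with e | e
  · exact Or.inl ⟨eG.trans ((Subgroup.topEquiv.symm.trans
      (MulEquiv.subgroupCongr (hE.gen_eq_top e).symm)).trans ψ)⟩
  · have hP := eighteen_pgl hF
    obtain ⟨ψ'⟩ := hP.gen_equiv_psl hF
    obtain ⟨χ⟩ := equiv_of_gen_equiv hE e hP (card_pgl17 hF) (ψ.trans ψ'.symm)
    exact Or.inr ⟨eG.trans χ⟩

end Cfsg.Agent.Classification.SylowEighteen
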