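import Cfsg.Agent.Classification.SylowEighteen.Count
import Cfsg.Agent.Lib.SmallGroups.Basic

set_option autoImplicit false

/-! The Sylow numbers for order 2448. -/

namespace Cfsg.Agent.Classification.SylowEighteen.Eighteen

open MulAction Finset

variable {H : Type*} [Group H] [Finite H] [Fact (Nat.Prime 17)]

theorem card_sylow_three (h : Eighteen H) (hk : Nat.card H = 2448) :
    Nat.card (Sylow 3 H) = 136 := by
  classical
  have := Fintype.ofFinite H
  have := Fintype.ofFinite (Sylow 17 H)
  have : Fact (Nat.Prime 3) := ⟨Nat.prime_three⟩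
  have := Fintype.ofFinite (Sylow 3 H)
  have hG : Nat.card H = 3 ^ 2 * 272 := hk
  have hR : ∀ R : Sylow 3 H, Nat.card (R : Subgroup H) = 9 := fun R => by
    simpa using SmallGroups.card_sylow_eq hG (by norm_num) R
  set Z := univ.filter fun g : H => fixed g = ∅
  have hsub : Z ⊆ (univ : Finset (Sylow 3 H)).biUnion
      fun R => (univ.filter fun g => g ∈ (R : Subgroup H)).erase 1 := by
    intro g hg
    have hf : fixed g = ∅ := (mem_filter.mp hg).2
    have hg1 : g ≠ 1 := by
      rintro rfl
      obtain ⟨a⟩ := (inferInstance : Nonempty (Sylow 17 H))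
      have : a ∈ fixed (1 : H) := mem_fixed.mpr (one_smul _ a)
      rw [hf] at this
      simp at this
    have h2 : ¬ 2 ∣ orderOf g := fun h2 => by
      have := h.fixed_nonempty_of_even hk h2
      rw [hf] at this
      exact not_nonempty_empty this
    have h17 : ¬ 17 ∣ orderOf g := fun h17 => by
      set y := g ^ (orderOf g / 17) with hy
      have hyo : orderOf y = 17 := orderOf_pow_orderOf_div (orderOf_pos g).ne' h17
      have hp : IsPGroup 17 (Subgroup.zpowers y) :=
        IsPGroup.of_card (n := 1) (by rw [Nat.card_zpowers, hyo, pow_one])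
      obtain ⟨P, hP⟩ := hp.exists_le_sylow
      have hPe : Subgroup.zpowers y = (P : Subgroup H) :=
        Subgroup.eq_of_le_of_card_ge hP (by rw [h.card_sylow P, Nat.card_zpowers, hyo])
      have hgP : g ∈ (P : Subgroup H) := h.mem_of_commute fun p hp => by
        rw [← hPe, Subgroup.mem_zpowers_iff] at hp
        obtain ⟨n, rfl⟩ := hp
        exact (((Commute.refl g).pow_right _).zpow_right n).eq
      have : P ∈ fixed g := mem_fixed.mpr (Eighteen.smul_self P hgP)
      rw [hf] at this
      simp at this
    have h9 : orderOf g ∣ 3 ^ 2 := by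
      have hd : orderOf g ∣ (2 ^ 4 * 17) * 3 ^ 2 := by rw [show (2 ^ 4 * 17) * 3 ^ 2 = 2448 by norm_num, ← hk]; exact orderOf_dvd_natCard g
      refine Nat.Coprime.dvd_of_dvd_mul_left ?_ hd
      exact Nat.Coprime.mul_right (((Nat.Prime.coprime_iff_not_dvd Nat.prime_two).mpr h2).symm.pow_right 4)
        ((Nat.Prime.coprime_iff_not_dvd Fact.out).mpr h17).symm
    obtain ⟨e, -, he⟩ := (Nat.dvd_prime_pow Nat.prime_three).mp h9
    obtain ⟨R, hR⟩ := (IsPGroup.of_card (p := 3) (n := e)
      (by rw [Nat.card_zpowers, he]) : IsPGroup 3 (Subgroup.zpowers g)).exists_le_sylow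
    exact mem_biUnion.mpr ⟨R, mem_univ _, mem_erase.mpr ⟨hg1, mem_filter.mpr ⟨mem_univ _, hR (Subgroup.mem_zpowers g)⟩⟩⟩
  have hle := (card_le_card hsub).trans (card_biUnion_le_card_mul _ _ 8 fun R _ => by
    have hm : (1 : H) ∈ univ.filter fun g => g ∈ (R : Subgroup H) := mem_filter.mpr ⟨mem_univ _, one_mem _⟩
    rw [card_erase_of_mem hm, ← Fintype.card_subtype, ← Nat.card_eq_fintype_card]
    exact (Nat.sub_le_sub_right (hR R).le 1))
  rw [h.card_free hk, card_univ, ← Nat.card_eq_fintype_card] at hle
  have hm := SmallGroups.card_sylow_mem_list hG (by norm_num)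
  rw [show (Nat.divisors 272).filter (fun d => d % 3 = 1) = {1, 4, 16, 34, 136} by decide +kernel] at hm
  simp only [mem_insert, mem_singleton] at hm
  omega

theorem card_sylow_two (h : Eighteen H) (hk : Nat.card H = 2448) :
    Nat.card (Sylow 2 H) = 153 := by
  classical
  have := Fintype.ofFinite H
  have := Fintype.ofFinite (Sylow 17 H)
  have : Fact (Nat.Prime 2) := ⟨Nat.prime_two⟩
  have hG : Nat.card H = 2 ^ 4 * 153 := hk
  have hk' : Nat.card H = 306 * 8 := hk
  obtain ⟨T⟩ := (inferInstance : Nonempty (Sylow 2 H))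
  have hT : Nat.card (T : Subgroup H) = 16 := by simpa using SmallGroups.card_sylow_eq hG (by norm_num) T
  have : Nontrivial (T : Subgroup H) := Finite.one_lt_card_iff_nontrivial.mp (by rw [hT]; norm_num)
  have hc := T.isPGroup'.center_nontrivial
  obtain ⟨n, hn0, hn⟩ := (T.isPGroup'.to_subgroup (Subgroup.center (T : Subgroup H))).nontrivial_iff_card.mp hc
  obtain ⟨⟨⟨t, htT⟩, htc⟩, hto'⟩ := exists_prime_orderOf_dvd_card'
    (G := Subgroup.center (T : Subgroup H)) 2 (by rw [hn]; exact dvd_pow_self 2 hn0.ne')
  rw [Subgroup.orderOf_mk, Subgroup.orderOf_mk] at hto'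
  have ht2 : t * t = 1 := by rw [← sq, ← hto', pow_orderOf_eq_one]
  have ht1 : t ≠ 1 := fun e => by rw [e, orderOf_one] at hto'; norm_num at hto'
  have hTc : (T : Subgroup H) ≤ Subgroup.centralizer {t} := fun x hx => by
    rw [Subgroup.mem_centralizer_singleton_iff]
    exact congrArg Subtype.val (Subgroup.mem_center_iff.mp htc ⟨x, hx⟩)
  have htf := h.fixed_nonempty_of_even hk (g := t) (by rw [hto'])
  obtain ⟨a, b, hne, hfix⟩ := card_eq_two.mp (h.card_fixed_involution hto' htf)
  have hta : t • a = a := mem_fixed.mp (by rw [hfix]; simp)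
  have htb : t • b = b := mem_fixed.mp (by rw [hfix]; simp)
  -- the common stabiliser centralises `t`
  have hpc : ∀ y : H, y • a = a → y • b = b → y * t = t * y := fun y ha hb => by
    have : y * t * y⁻¹ = t := by
      refine h.involution_unique hne.symm (fun e => ht1 ?_) ?_ ht1 ht2 ?_ ?_ hta htb
      · calc t = y⁻¹ * (y * t * y⁻¹) * y := by group
          _ = 1 := by rw [e, mul_one, inv_mul_cancel]
      · calc y * t * y⁻¹ * (y * t * y⁻¹) = y * (t * t) * y⁻¹ := by group
          _ = 1 := by rw [ht2, mul_one, mul_inv_cancel]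
      · rw [mul_smul, mul_smul, inv_smul_eq_iff.mpr ha.symm, hta, ha]
      · rw [mul_smul, mul_smul, inv_smul_eq_iff.mpr hb.symm, htb, hb]
    exact mul_inv_eq_iff_eq_mul.mp this
  have hcard : Nat.card (Subgroup.centralizer {t}) ≤ 16 := by
    rw [Nat.card_eq_fintype_card, Fintype.card_subtype]
    have hsub : (univ.filter fun g => g ∈ Subgroup.centralizer {t}) ⊆
        (univ.filter fun g : H => g • a = a ∧ g • b = b) ∪
          (univ.filter fun g : H => g • a = b ∧ g • b = a) := by
      intro g hg
      have hgt := Subgroup.mem_centralizer_singleton_iff.mp (mem_filter.mp hg).2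
      have hmap : ∀ x ∈ fixed t, g • x ∈ fixed t := fun x hx => by
        rw [mem_fixed, ← mul_smul, ← hgt, mul_smul, mem_fixed.mp hx]
      have ha := hmap a (mem_fixed.mpr hta)
      have hb := hmap b (mem_fixed.mpr htb)
      rw [hfix, mem_insert, mem_singleton] at ha hb
      simp only [mem_union, mem_filter, mem_univ, true_and]
      rcases ha with ha | ha <;> rcases hb with hb | hb
      · exact absurd (smul_left_cancel g (ha.trans hb.symm)) hne
      · exact Or.inl ⟨ha, hb⟩
      · exact Or.inr ⟨ha, hb⟩
      · exact absurd (smul_left_cancel g (ha.trans hb.symm)) hne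
    refine ((card_le_card hsub).trans (card_union_le _ _)).trans ?_
    have h1 := h.card_pair_eq hk' hne.symm
    have h2 := h.card_swap_le hk' hne.symm (univ.filter fun g : H => g • a = b ∧ g • b = a)
      (fun g hg => (mem_filter.mp hg).2)
    omega
  have hTeq : (T : Subgroup H) = Subgroup.centralizer {t} :=
    Subgroup.eq_of_le_of_card_ge hTc (by rw [hT]; exact hcard)
  have hN : Subgroup.normalizer ((T : Subgroup H) : Set H) = (T : Subgroup H) := by
    refine le_antisymm (fun g hg => ?_) Subgroup.le_normalizer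
    rw [hTeq, Subgroup.mem_centralizer_singleton_iff]
    by_contra hgt
    set t' := g * t * g⁻¹ with ht'
    have ht'T : t' ∈ (T : Subgroup H) := (Subgroup.mem_normalizer_iff.mp hg t).mp htT
    have ht'c : ∀ x ∈ (T : Subgroup H), x * t' = t' * x := by
      intro x hx
      have hx' : g⁻¹ * x * g ∈ (T : Subgroup H) := by
        have := (Subgroup.mem_normalizer_iff.mp (inv_mem hg) x).mp hx
        simpa using this
      rw [hTeq, Subgroup.mem_centralizer_singleton_iff] at hx'
      have := congrArg (fun z => g * z * g⁻¹) hx'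
      simpa [ht', mul_assoc] using this
    have ht'o : orderOf t' = 2 := by
      rw [ht', show g * t * g⁻¹ = MulAut.conj g t from rfl, MulEquiv.orderOf_eq, hto']
    have ht'2 : t' * t' = 1 := by rw [← sq, ← ht'o, pow_orderOf_eq_one]
    have ht'1 : t' ≠ 1 := fun e => by rw [e, orderOf_one] at ht'o; norm_num at ht'o
    have hne' : t' ≠ t := fun e => hgt (mul_inv_eq_iff_eq_mul.mp e)
    obtain ⟨c, d, hcd, hfix'⟩ := card_eq_two.mp (h.card_fixed_involution ht'o
      (h.fixed_nonempty_of_even hk (g := t') (by rw [ht'o])))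
    obtain ⟨x, hx, hxa, hxb⟩ : ∃ x, t' • x = x ∧ x ≠ a ∧ x ≠ b := by
      by_contra hcon
      push Not at hcon
      have hc' : t' • c = c := mem_fixed.mp (by rw [hfix']; simp)
      have hd' : t' • d = d := mem_fixed.mp (by rw [hfix']; simp)
      have := hcon c hc'
      have := hcon d hd'
      have hab : t' • a = a ∧ t' • b = b := by
        by_cases hca : c = a
        · subst hca; exact ⟨hc', (hcon d hd' hcd.symm) ▸ hd'⟩
        · have hcb := hcon c hc' hca
          subst hcb
          by_cases hda : d = a
          · subst hda; exact ⟨hd', hc'⟩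
          · exact absurd (hcon d hd' hda) hcd.symm
      exact hne' (h.involution_unique hne.symm ht'1 ht'2 ht1 ht2 hab.1 hab.2 hta htb)
    have hsq : ∀ y : H, y • a = a → y • b = b → y * y = 1 := fun y hya hyb => by
      have hyT : y ∈ (T : Subgroup H) := by
        rw [hTeq, Subgroup.mem_centralizer_singleton_iff]; exact hpc y hya hyb
      have hxm : x ∈ fixed t' := mem_fixed.mpr hx
      have hmap : ∀ z ∈ fixed t', y • z ∈ fixed t' := fun z hz => by
        rw [mem_fixed, ← mul_smul, ← ht'c y hyT, mul_smul, mem_fixed.mp hz]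
      have hc' := hmap c (by rw [hfix']; simp)
      have hd' := hmap d (by rw [hfix']; simp)
      rw [hfix', mem_insert, mem_singleton] at hxm hc' hd'
      have hyx : (y * y) • x = x := by
        have hinj : ∀ {u v : Sylow 17 H}, y • u = y • v → u = v := fun e => smul_left_cancel y e
        rw [mul_smul]
        rcases hxm with rfl | rfl <;> rcases hc' with e1 | e1 <;> rcases hd' with e2 | e2 <;>
          first
            | exact absurd (hinj (e1.trans e2.symm)) hcd
            | simp only [e1, e2]
      exact h.eq_one_of_three hne.symm hxa hxb (by rw [mul_smul, hya, hya]) (by rw [mul_smul, hyb, hyb]) hyx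
    have h8 := h.card_pair_eq hk' hne.symm
    have hsub : (univ.filter fun g : H => g • a = a ∧ g • b = b) ⊆ {1, t} := fun y hy => by
      obtain ⟨hya, hyb⟩ := (mem_filter.mp hy).2
      rw [mem_insert, mem_singleton, or_iff_not_imp_left]
      exact fun hy1 => h.involution_unique hne.symm hy1 (hsq y hya hyb) ht1 ht2 hya hyb hta htb
    have := (card_le_card hsub).trans card_le_two
    omega
  rw [T.card_eq_index_normalizer, ← Sylow.coe_coe, hN]
  have := (T : Subgroup H).card_mul_index
  rw [hT, hk] at this
  omega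

end Cfsg.Agent.Classification.SylowEighteen.Eighteen
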