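import Cfsg.Agent.Classification.SylowEighteen.Numbers
import Cfsg.Agent.SylowNum.Simple
import Cfsg.Agent.S0496
import Cfsg.Agent.S0989
import Cfsg.Agent.S0990
import Cfsg.Agent.S1020

set_option autoImplicit false

/-! The subgroup generated by the Sylow 17-subgroups. -/

namespace Cfsg.Agent.Classification.SylowEighteen

open MulAction
open scoped Pointwise

variable {H : Type*} [Group H] [Finite H] [Fact (Nat.Prime 17)]

/-- The subgroup generated by all Sylow 17-subgroups. -/
def sylowGen (H : Type*) [Group H] : Subgroup H := ⨆ P : Sylow 17 H, (P : Subgroup H)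

theorem le_sylowGen (P : Sylow 17 H) : (P : Subgroup H) ≤ sylowGen H :=
  le_iSup (fun P : Sylow 17 H => (P : Subgroup H)) P

instance sylowGen_normal : (sylowGen H).Normal := by
  refine ⟨fun x hx g => ?_⟩
  have hle : (sylowGen H).map (MulAut.conj g).toMonoidHom ≤ sylowGen H := by
    rw [sylowGen, Subgroup.map_iSup]
    exact iSup_le fun P => le_trans (le_of_eq rfl) (le_sylowGen (g • P))
  exact hle ⟨x, hx, rfl⟩

theorem isSimple_of_normal_le {H : Type*} [Group H] [Finite H] [Fact (Nat.Prime 17)] (h : Eighteen H)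
    (hgen : sylowGen H = ⊤)
    (hall : ∀ M : Subgroup H, M.Normal → M ≠ ⊥ → ∀ P : Sylow 17 H, (P : Subgroup H) ≤ M) :
    IsSimpleGroup H := by
  have : Nontrivial H := by
    refine not_subsingleton_iff_nontrivial.mp fun hs => ?_
    obtain ⟨P⟩ := (inferInstance : Nonempty (Sylow 17 H))
    have := h.card_sylow P
    rw [Nat.card_of_subsingleton (1 : (P : Subgroup H))] at this
    norm_num at this
  refine ⟨fun M hM => ?_⟩
  by_cases hM' : M = ⊥
  · exact Or.inl hM'
  · exact Or.inr (top_le_iff.mp (hgen ▸ iSup_le (hall M hM hM')))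

namespace Eighteen

theorem card_eighteen_of_not_le (h : Eighteen H) (M : Subgroup H) [hM : M.Normal] (hne : M ≠ ⊥)
    {P : Sylow 17 H} (hP : ¬ (P : Subgroup H) ≤ M) : Nat.card M = 18 := by
  have hbot : (P : Subgroup H) ⊓ M = ⊥ := by
    have : Fact (Nat.Prime (Nat.card (P : Subgroup H))) := ⟨by rw [h.card_sylow P]; exact Fact.out⟩
    refine (M.subgroupOf (P : Subgroup H)).eq_bot_or_eq_top_of_prime_card.elim (fun e => ?_) (fun e => ?_)
    · rw [Subgroup.subgroupOf_eq_bot, disjoint_iff, inf_comm] at e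
      exact e
    · exact absurd (Subgroup.subgroupOf_eq_top.mp e) hP
  have hsemi : ∀ m ∈ M, m • P = P → m = 1 := by
    intro m hm hmP
    have hcomm : ∀ p ∈ (P : Subgroup H), m * p = p * m := fun p hp => by
      have h1 : m * p * m⁻¹ * p⁻¹ ∈ (P : Subgroup H) ⊓ M := by
        refine Subgroup.mem_inf.mpr ⟨Subgroup.mul_mem _ ?_ (Subgroup.inv_mem _ hp), ?_⟩
        · exact (Subgroup.mem_normalizer_iff.mp (Sylow.smul_eq_iff_mem_normalizer.mp hmP) p).mp hp
        · have h2 := hM.conj_mem m⁻¹ (inv_mem hm) p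
          have := mul_mem hm h2
          simpa [mul_assoc] using this
      rw [hbot, Subgroup.mem_bot, mul_inv_eq_one] at h1
      exact mul_inv_eq_iff_eq_mul.mp h1
    have : m ∈ (P : Subgroup H) ⊓ M := ⟨h.mem_of_commute hcomm, hm⟩
    rwa [hbot, Subgroup.mem_bot] at this
  have hsurj : ∀ R : Sylow 17 H, ∃ m ∈ M, m • P = R := by
    intro R
    by_cases hR : R = P
    · exact ⟨1, one_mem _, by rw [hR, one_smul]⟩
    obtain ⟨m, hm, hm1⟩ := (Subgroup.bot_or_exists_ne_one M).resolve_left hne
    have hmP : m • P ≠ P := fun e => hm1 (hsemi m hm e)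
    obtain ⟨p, hp, hpe⟩ := h.exists_smul_eq hmP hR
    refine ⟨p * m * p⁻¹, hM.conj_mem m hm p, ?_⟩
    rw [mul_smul, mul_smul, smul_self P (inv_mem hp), hpe]
  rw [← h.card]
  refine Nat.card_eq_of_bijective (fun m : M => (m : H) • P) ⟨fun a b e => ?_, fun R => ?_⟩
  · have : (b : H)⁻¹ * a = 1 :=
      hsemi _ (mul_mem (inv_mem b.2) a.2) (by rw [mul_smul, inv_smul_eq_iff]; exact e)
    exact Subtype.ext (inv_mul_eq_one.mp this).symm
  · obtain ⟨m, hm, e⟩ := hsurj R
    exact ⟨⟨m, hm⟩, e⟩

/-- Every non-trivial normal subgroup contains every Sylow 17-subgroup. -/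
theorem le_of_normal (h : Eighteen H) (M : Subgroup H) [hM : M.Normal] (hne : M ≠ ⊥)
    (P : Sylow 17 H) : (P : Subgroup H) ≤ M := by
  by_contra hP
  have h18 := h.card_eighteen_of_not_le M hne hP
  have : Fact (Nat.Prime 3) := ⟨Nat.prime_three⟩
  obtain ⟨R⟩ := (inferInstance : Nonempty (Sylow 3 M))
  have hR : Nat.card (R : Subgroup M) = 9 := by
    simpa using SmallGroups.card_sylow_eq (G := M) (p := 3) (a := 2) (m := 2) h18 (by norm_num) R
  have hRn : (R : Subgroup M).Normal := Subgroup.normal_of_index_eq_two (by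
    have := (R : Subgroup M).card_mul_index
    rw [hR, h18] at this
    omega)
  have := R.characteristic_of_normal hRn
  have hn : ((R : Subgroup M).map M.subtype).Normal := ConjAct.normal_of_characteristic_of_normal
  have hcard : Nat.card ((R : Subgroup M).map M.subtype) = 9 := by
    rw [Subgroup.card_map_of_injective M.subtype_injective, hR]
  have := h.card_eighteen_of_not_le ((R : Subgroup M).map M.subtype)
    (fun e => by rw [e, Subgroup.card_bot] at hcard; norm_num at hcard) (P := P)
    fun e => hP (e.trans (Subgroup.map_subtype_le _))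
  omega

theorem sylow_gen_bijective (h : Eighteen H) : Function.Bijective
    fun P : Sylow 17 H => P.subtype (le_sylowGen P) := by
  refine ⟨fun P Q e => Sylow.subtype_injective e, fun R => ?_⟩
  obtain ⟨P, hP⟩ := (R.isPGroup'.map (sylowGen H).subtype).exists_le_sylow
  refine ⟨P, ?_⟩
  have h1 : (R : Subgroup (sylowGen H)) ≤ (P.subtype (le_sylowGen P) : Subgroup (sylowGen H)) := by
    intro x hx
    exact Subgroup.mem_subgroupOf.mpr (hP ⟨x, hx, rfl⟩)
  exact Sylow.ext (R.is_maximal' (P.subtype (le_sylowGen P)).isPGroup' h1)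

theorem subgen_smul (P : Sylow 17 H) (l : sylowGen H) :
    l • P.subtype (le_sylowGen P) = ((l : H) • P).subtype (le_sylowGen ((l : H) • P)) :=
  Sylow.smul_subtype _ _

theorem gen (h : Eighteen H) : Eighteen (sylowGen H) := by
  refine ⟨by rw [← Nat.card_eq_of_bijective _ h.sylow_gen_bijective, h.card], fun l hl => ?_⟩
  refine Subtype.ext (h.faith l fun P => h.sylow_gen_bijective.1 ?_)
  show ((l : H) • P).subtype (le_sylowGen ((l : H) • P)) = P.subtype (le_sylowGen P)
  rw [← subgen_smul]
  exact hl _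

theorem gen_top (h : Eighteen H) : sylowGen (sylowGen H) = ⊤ := by
  have hle : sylowGen H ≤ (sylowGen (sylowGen H)).map (sylowGen H).subtype := iSup_le fun P x hx =>
    ⟨⟨x, le_sylowGen P hx⟩, le_sylowGen (P.subtype (le_sylowGen P)) hx, rfl⟩
  rw [eq_top_iff]
  intro x _
  obtain ⟨y, hy, e⟩ := hle x.2
  rwa [Subtype.ext e] at hy

theorem isSimple_gen (h : Eighteen H) : IsSimpleGroup (sylowGen H) :=
  isSimple_of_normal_le h.gen h.gen_top fun M _ hne P => h.gen.le_of_normal M hne P

theorem not_comm (h : Eighteen H) : ¬ IsMulCommutative H := by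
  intro hc
  obtain ⟨P⟩ := (inferInstance : Nonempty (Sylow 17 H))
  obtain ⟨Q, hQ⟩ := h.exists_ne P
  have hP : (P : Subgroup H).Normal :=
    ⟨fun a ha g => by rwa [hc.1.1 g a, mul_assoc, mul_inv_cancel, mul_one]⟩
  have := Sylow.unique_of_normal P hP
  exact hQ (Subsingleton.elim _ _)

theorem sign_eq_one_false [IsSimpleGroup H] (h : Eighteen H) : Nat.card H ≠ 4896 := by
  classical
  intro hH
  have := Fintype.ofFinite H
  have := Fintype.ofFinite (Sylow 17 H)
  have hX : Fintype.card (Sylow 17 H) = 17 + 1 := by rw [← Nat.card_eq_fintype_card, h.card]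
  obtain ⟨P⟩ := (inferInstance : Nonempty (Sylow 17 H))
  obtain ⟨Q, hQ⟩ := h.exists_ne P
  set ρ := MulAction.toPermHom H (Sylow 17 H) with hρ
  have hA : ρ.range ≤ alternatingGroup (Sylow 17 H) := by
    rintro _ ⟨s, rfl⟩
    exact Equiv.Perm.mem_alternatingGroup.mpr (SylowNum.sign_toPerm_eq_one h.not_comm s)
  have hPp : IsPGroup 17 ((P : Subgroup H).map ρ) := P.isPGroup'.map ρ
  obtain ⟨S, hS⟩ := hPp.exists_le_sylow
  have hN := S0989.result 17 (Or.inr hX) S
  have hS17 : Nat.card (S : Subgroup (Equiv.Perm (Sylow 17 H))) = 17 := by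
    have : Nat.card (Equiv.Perm (Sylow 17 H)) = 17 ^ 1 * (Nat.factorial 18 / 17) := by
      rw [Nat.card_perm, h.card]; decide +kernel
    simpa using SmallGroups.card_sylow_eq this (by decide +kernel) S
  have hSe : (P : Subgroup H).map ρ = (S : Subgroup (Equiv.Perm (Sylow 17 H))) :=
    Subgroup.eq_of_le_of_card_ge hS
      (by rw [Subgroup.card_map_of_injective h.toPerm_injective, h.card_sylow P, hS17])
  have hcs : Nat.card (stabilizer H P) = 272 := by
    have := h.card_eq_mul hQ
    rw [h.card_stab hQ]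
    omega
  have hle : (stabilizer H P).map ρ ≤ Subgroup.normalizer ((S : Subgroup (Equiv.Perm (Sylow 17 H))) : Set _) := by
    rw [← hSe, ← SylowNum.normalizer_eq_stabilizer, ← Sylow.coe_coe]
    exact Subgroup.le_normalizer_map ρ
  have heq : (stabilizer H P).map ρ = Subgroup.normalizer ((S : Subgroup (Equiv.Perm (Sylow 17 H))) : Set _) :=
    Subgroup.eq_of_le_of_card_ge hle (by
      rw [Subgroup.card_map_of_injective h.toPerm_injective, hcs, hN])
  have hNA : Subgroup.normalizer ((S : Subgroup (Equiv.Perm (Sylow 17 H))) : Set _) ≤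
      alternatingGroup (Sylow 17 H) := heq ▸ (Subgroup.map_le_range ρ _).trans hA
  obtain ⟨hSA, h2⟩ := S0990.result (α := Sylow 17 H) (by omega) 17 (by norm_num) S
  rw [← Subgroup.subgroupOf_normalizer_eq hSA,
    Nat.card_congr (Subgroup.subgroupOfEquivOfLe hNA).toEquiv] at h2
  rw [hN] at h2
  norm_num at h2

theorem card_gen (h : Eighteen H) : Nat.card (sylowGen H) = 2448 := by
  classical
  have := h.isSimple_gen
  have hg := h.gen
  have := Fintype.ofFinite (sylowGen H)
  have := Fintype.ofFinite (Sylow 17 (sylowGen H))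
  obtain ⟨P⟩ := (inferInstance : Nonempty (Sylow 17 (sylowGen H)))
  obtain ⟨Q, hQ⟩ := hg.exists_ne P
  have hk := hg.card_eq_mul hQ
  have hd := hg.card_pair_dvd hQ
  set k := Nat.card (pair P Q)
  have hk1 : k ≠ 1 := fun e => by
    rw [e] at hk
    rcases S0496.result hg.not_comm (by omega) with h' | h' | h' | h' | h' | h' <;> omega
  have hev : Even k := by
    obtain ⟨i, hi, hik⟩ := (Nat.dvd_prime_pow Nat.prime_two).mp (show k ∣ 2 ^ 4 from hd)
    rw [hik]
    refine Nat.even_pow.mpr ⟨even_two, ?_⟩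
    rintro rfl
    exact hk1 (by simpa using hik)
  have h8 := hg.eight_le hk hev
  have h16 : k ≠ 16 := fun e => hg.sign_eq_one_false (by rw [hk, e])
  have : k ≤ 16 := Nat.le_of_dvd (by norm_num) hd
  obtain ⟨i, hi, hik⟩ := (Nat.dvd_prime_pow Nat.prime_two).mp (show k ∣ 2 ^ 4 from hd)
  interval_cases i <;> omega

theorem card_cases (h : Eighteen H) :
    Nat.card H = 2448 ∨ Nat.card H = 4896 := by
  obtain ⟨P⟩ := (inferInstance : Nonempty (Sylow 17 H))
  obtain ⟨Q, hQ⟩ := h.exists_ne P
  have hk := h.card_eq_mul hQ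
  have hd := h.card_pair_dvd hQ
  have h8 : 8 ∣ Nat.card (pair P Q) := by
    have := (sylowGen H).card_subgroup_dvd_card
    rw [h.card_gen, hk, show 2448 = 306 * 8 by norm_num] at this
    exact Nat.dvd_of_mul_dvd_mul_left (by norm_num) this
  have := Nat.le_of_dvd (by norm_num) hd
  obtain ⟨j, hj⟩ := h8
  rw [hj] at hk this hd
  have : j ≤ 2 := by omega
  interval_cases j <;> simp_all

theorem gen_eq_top (h : Eighteen H) (hH : Nat.card H = 2448) : sylowGen H = ⊤ :=
  Subgroup.eq_top_of_card_eq _ (h.card_gen.trans hH.symm)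

/-- The generated subgroup is `PSL(2, 17)`. -/
theorem gen_equiv_psl (h : Eighteen H) {F : Type*} [Field F] [Fintype F] (hF : Fintype.card F = 17) :
    Nonempty (sylowGen H ≃* Matrix.ProjectiveSpecialLinearGroup (Fin 2) F) :=
  have := h.isSimple_gen
  S1020.result h.card_gen hF

end Eighteen

end Cfsg.Agent.Classification.SylowEighteen
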