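import Cfsg.Agent.Classification.SylowEighteen.Structure
import Cfsg.Agent.S0265

set_option autoImplicit false

/-! The groups of order 4896 are isomorphic; `PGL(2, 17)` is one of them. -/

namespace Cfsg.Agent.Classification.SylowEighteen

open MulAction
open scoped Pointwise Matrix

variable {H : Type*} [Group H] [Finite H] [Fact (Nat.Prime 17)]

omit [Finite H] [Fact (Nat.Prime 17)] in
/-- Conjugation commutes with images. -/
theorem map_conj_smul {A B : Type*} [Group A] [Group B] (f : A →* B) (g : A) (S : Subgroup A) :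
    (MulAut.conj g • S).map f = MulAut.conj (f g) • S.map f := by
  ext x
  simp only [Subgroup.mem_map, Subgroup.mem_smul_pointwise_iff_exists, MulAut.smul_def, MulAut.conj_apply]
  constructor
  · rintro ⟨_, ⟨s, hs, rfl⟩, rfl⟩
    exact ⟨f s, ⟨s, hs, rfl⟩, by rw [map_mul, map_mul, map_inv]⟩
  · rintro ⟨_, ⟨s, hs, rfl⟩, rfl⟩
    exact ⟨g * s * g⁻¹, ⟨s, hs, rfl⟩, by rw [map_mul, map_mul, map_inv]⟩

namespace Eighteen

/-- The permutation image of a group of order 4896. -/
theorem range_eq (h : Eighteen H) (hH : Nat.card H = 4896) (P : Sylow 17 H) :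
    (MulAction.toPermHom H (Sylow 17 H)).range =
      (sylowGen H).map (MulAction.toPermHom H (Sylow 17 H)) ⊔
        Subgroup.normalizer (((P : Subgroup H).map (MulAction.toPermHom H (Sylow 17 H)) :
          Subgroup (Equiv.Perm (Sylow 17 H))) : Set (Equiv.Perm (Sylow 17 H))) := by
  classical
  have := Fintype.ofFinite (Sylow 17 H)
  have hX : Fintype.card (Sylow 17 H) = 17 + 1 := by rw [← Nat.card_eq_fintype_card, h.card]
  obtain ⟨Q, hQ⟩ := h.exists_ne P
  set ρ := MulAction.toPermHom H (Sylow 17 H) with hρ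
  obtain ⟨S, hS⟩ := (P.isPGroup'.map ρ).exists_le_sylow
  have hN := S0989.result 17 (Or.inr hX) S
  have hS17 : Nat.card (S : Subgroup (Equiv.Perm (Sylow 17 H))) = 17 := by
    have : Nat.card (Equiv.Perm (Sylow 17 H)) = 17 ^ 1 * (Nat.factorial 18 / 17) := by
      rw [Nat.card_perm, h.card]; decide +kernel
    simpa using SmallGroups.card_sylow_eq this (by decide +kernel) S
  have hSe : (P : Subgroup H).map ρ = (S : Subgroup (Equiv.Perm (Sylow 17 H))) :=
    Subgroup.eq_of_le_of_card_ge hS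
      (by rw [Subgroup.card_map_of_injective h.toPerm_injective, h.card_sylow P, hS17])
  have hcs : Nat.card (stabilizer H P) = 272 := by
    have := h.card_eq_mul hQ
    rw [h.card_stab hQ]
    omega
  have hle : (stabilizer H P).map ρ ≤
      Subgroup.normalizer ((S : Subgroup (Equiv.Perm (Sylow 17 H))) : Set _) := by
    rw [← hSe, ← SylowNum.normalizer_eq_stabilizer, ← Sylow.coe_coe]
    exact Subgroup.le_normalizer_map ρ
  have heq : (stabilizer H P).map ρ = Subgroup.normalizer ((S : Subgroup (Equiv.Perm (Sylow 17 H))) : Set _) :=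
    Subgroup.eq_of_le_of_card_ge hle (by
      rw [Subgroup.card_map_of_injective h.toPerm_injective, hcs, hN])
  rw [hSe, ← heq, ← Subgroup.map_sup, MonoidHom.range_eq_map]
  congr 1
  rw [eq_comm, eq_top_iff]
  intro g _
  obtain ⟨R, hR⟩ := h.exists_ne P
  obtain ⟨l, hl⟩ : ∃ l : sylowGen H, l • P.subtype (le_sylowGen P) =
      (g • P).subtype (le_sylowGen (g • P)) := MulAction.exists_smul_eq (↥(sylowGen H)) _ _
  rw [subgen_smul] at hl
  have hl' : (l : H) • P = g • P := h.sylow_gen_bijective.1 hl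
  have hmem : (l : H)⁻¹ * g ∈ stabilizer H P := by
    rw [mem_stabilizer_iff, mul_smul, inv_smul_eq_iff, hl']
  rw [show g = (l : H) * ((l : H)⁻¹ * g) by group]
  exact mul_mem (le_sup_left (a := sylowGen H) l.2) (le_sup_right (a := sylowGen H) hmem)

end Eighteen

/-- Two groups of order 4896 with isomorphic generated subgroups are isomorphic. -/
theorem equiv_of_gen_equiv {G : Type*} [Group G] [Finite G] (h : Eighteen H) (hH : Nat.card H = 4896)
    (h' : Eighteen G) (hG : Nat.card G = 4896) (φ : sylowGen H ≃* sylowGen G) :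
    Nonempty (H ≃* G) := by
  have hφinj : Function.Injective (Sylow.mapSurjective (p := 17) (f := φ.toMonoidHom) φ.surjective) :=
    fun A B e => Sylow.ext (Subgroup.map_injective φ.injective (congrArg Sylow.toSubgroup e))
  let eH : Sylow 17 H ≃ Sylow 17 (sylowGen H) := Equiv.ofBijective _ h.sylow_gen_bijective
  let eG : Sylow 17 G ≃ Sylow 17 (sylowGen G) := Equiv.ofBijective _ h'.sylow_gen_bijective
  let eM : Sylow 17 (sylowGen H) ≃ Sylow 17 (sylowGen G) :=
    Equiv.ofBijective (Sylow.mapSurjective (p := 17) (f := φ.toMonoidHom) φ.surjective)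
      ⟨hφinj, Sylow.mapSurjective_surjective φ.surjective 17⟩
  let e : Sylow 17 H ≃ Sylow 17 G := (eH.trans eM).trans eG.symm
  have he : ∀ (l : sylowGen H) (P : Sylow 17 H), e ((l : H) • P) = ((φ l : sylowGen G) : G) • e P := by
    intro l P
    apply eG.injective
    show eG (eG.symm (eM (eH ((l : H) • P)))) = eG (((φ l : sylowGen G) : G) • eG.symm (eM (eH P)))
    rw [eG.apply_symm_apply]
    have h1 : eH ((l : H) • P) = l • eH P := (Eighteen.subgen_smul P l).symm
    have h2 : ∀ R : Sylow 17 G, eG (((φ l : sylowGen G) : G) • R) = φ l • eG R :=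
      fun R => (Eighteen.subgen_smul R (φ l)).symm
    rw [h1, h2, eG.apply_symm_apply]
    refine Sylow.ext ?_
    show ((l • eH P : Sylow 17 (sylowGen H)) : Subgroup (sylowGen H)).map φ.toMonoidHom = _
    rw [Sylow.coe_subgroup_smul, Sylow.coe_subgroup_smul]
    exact map_conj_smul φ.toMonoidHom l _
  set ρ := MulAction.toPermHom H (Sylow 17 H) with hρ
  set σ := MulAction.toPermHom G (Sylow 17 G) with hσ
  let c : Equiv.Perm (Sylow 17 H) ≃* Equiv.Perm (Sylow 17 G) := e.permCongrHom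
  have hc : ∀ l : sylowGen H, c (ρ l) = σ (φ l) := fun l => by
    refine Equiv.ext fun R => ?_
    show e ((l : H) • e.symm R) = ((φ l : sylowGen G) : G) • R
    rw [he, e.apply_symm_apply]
  have hgen : ((sylowGen H).map ρ).map c.toMonoidHom = (sylowGen G).map σ := by
    apply le_antisymm
    · rintro _ ⟨_, ⟨l, hl, rfl⟩, rfl⟩
      exact ⟨φ ⟨l, hl⟩, (φ ⟨l, hl⟩).2, (hc ⟨l, hl⟩).symm⟩
    · rintro _ ⟨m, hm, rfl⟩
      obtain ⟨l, hl⟩ := φ.surjective ⟨m, hm⟩
      exact ⟨ρ l, ⟨l, l.2, rfl⟩, (hc l).trans (by rw [hl])⟩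
  obtain ⟨P⟩ := (inferInstance : Nonempty (Sylow 17 H))
  have hP : ((P : Subgroup H).map ρ).map c.toMonoidHom = ((e P : Sylow 17 G) : Subgroup G).map σ := by
    have key : ((eG (e P) : Sylow 17 (sylowGen G)) : Subgroup (sylowGen G)) =
        ((eH P : Sylow 17 (sylowGen H)) : Subgroup (sylowGen H)).map φ.toMonoidHom := by
      show ((eG (eG.symm (eM (eH P))) : Sylow 17 (sylowGen G)) : Subgroup (sylowGen G)) = _
      rw [eG.apply_symm_apply]
      rfl
    apply le_antisymm
    · rintro _ ⟨_, ⟨l, hl, rfl⟩, rfl⟩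
      have : φ ⟨l, le_sylowGen P hl⟩ ∈ ((eG (e P) : Sylow 17 (sylowGen G)) : Subgroup (sylowGen G)) := by
        rw [key]
        exact ⟨⟨l, le_sylowGen P hl⟩, Subgroup.mem_subgroupOf.mpr hl, rfl⟩
      exact ⟨_, Subgroup.mem_subgroupOf.mp this, (hc ⟨l, le_sylowGen P hl⟩).symm⟩
    · rintro _ ⟨m, hm, rfl⟩
      have : (⟨m, le_sylowGen (e P) hm⟩ : sylowGen G) ∈
          ((eG (e P) : Sylow 17 (sylowGen G)) : Subgroup (sylowGen G)) := Subgroup.mem_subgroupOf.mpr hm
      rw [key] at this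
      obtain ⟨l, hl, hlm⟩ := this
      refine ⟨ρ l, ⟨l, Subgroup.mem_subgroupOf.mp hl, rfl⟩, (hc l).trans ?_⟩
      rw [show φ l = _ from hlm]
  have hrange : ρ.range.map c.toMonoidHom = σ.range := by
    rw [h.range_eq hH P, h'.range_eq hG (e P), Subgroup.map_sup, hgen, Subgroup.map_equiv_normalizer_eq,
      hP]
  exact ⟨(MonoidHom.ofInjective h.toPerm_injective).trans ((c.subgroupMap ρ.range).trans
    ((MulEquiv.subgroupCongr hrange).trans (MonoidHom.ofInjective h'.toPerm_injective).symm))⟩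

section PGL

variable {F : Type*} [Field F]

/-- Upper unitriangular matrices. -/
def up (F : Type*) [Field F] (x : F) : GL (Fin 2) F :=
  Matrix.GeneralLinearGroup.mkOfDetNeZero !![1, x; 0, 1] (by simp [Matrix.det_fin_two])

/-- Lower unitriangular matrices. -/
def down (F : Type*) [Field F] (x : F) : GL (Fin 2) F :=
  Matrix.GeneralLinearGroup.mkOfDetNeZero !![1, 0; x, 1] (by simp [Matrix.det_fin_two])

theorem up_val (x : F) : (up F x : Matrix (Fin 2) (Fin 2) F) = !![1, x; 0, 1] := rfl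

theorem down_val (x : F) : (down F x : Matrix (Fin 2) (Fin 2) F) = !![1, 0; x, 1] := rfl

theorem up_pow (n : ℕ) : up F 1 ^ n = up F (n : F) := by
  induction n with
  | zero =>
    refine Units.ext ?_
    rw [pow_zero, Units.val_one, up_val, Nat.cast_zero]
    exact Matrix.one_fin_two
  | succ n ih =>
    refine Units.ext ?_
    rw [pow_succ, ih, Units.val_mul, up_val, up_val, up_val, Matrix.mul_fin_two]
    simp [add_comm]

theorem down_pow (n : ℕ) : down F 1 ^ n = down F (n : F) := by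
  induction n with
  | zero =>
    refine Units.ext ?_
    rw [pow_zero, Units.val_one, down_val, Nat.cast_zero]
    exact Matrix.one_fin_two
  | succ n ih =>
    refine Units.ext ?_
    rw [pow_succ, ih, Units.val_mul, down_val, down_val, down_val, Matrix.mul_fin_two]
    simp [add_comm]

theorem eq_smul_of_mk_eq {x y : GL (Fin 2) F}
    (h : (x : GL (Fin 2) F ⧸ Subgroup.center (GL (Fin 2) F)) = y) :
    ∃ a : F, a ≠ 0 ∧ (y : Matrix (Fin 2) (Fin 2) F) = a • (x : Matrix (Fin 2) (Fin 2) F) := by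
  have hz := QuotientGroup.eq.mp h
  rw [Matrix.GeneralLinearGroup.center_eq_range_scalar] at hz
  obtain ⟨a, ha⟩ := hz
  refine ⟨(a : F), a.ne_zero, ?_⟩
  have : y = x * Matrix.GeneralLinearGroup.scalar (Fin 2) a := by rw [ha, mul_inv_cancel_left]
  rw [this, Units.val_mul, Matrix.GeneralLinearGroup.coe_scalar, Matrix.scalar_apply]
  ext i j
  simp [Matrix.mul_apply, Matrix.diagonal_apply, mul_comm]

theorem entry_up {g : GL (Fin 2) F} {n : ℕ}
    (h : ((g * up F 1 : GL (Fin 2) F) : GL (Fin 2) F ⧸ Subgroup.center (GL (Fin 2) F)) =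
      ((up F 1 ^ n * g : GL (Fin 2) F) : GL (Fin 2) F ⧸ Subgroup.center (GL (Fin 2) F))) :
    (g : Matrix (Fin 2) (Fin 2) F) 1 0 = 0 := by
  obtain ⟨a, -, e⟩ := eq_smul_of_mk_eq h
  rw [up_pow, Units.val_mul, Units.val_mul, up_val, up_val] at e
  have e0 := congrFun (congrFun e 1) 0
  have e1 := congrFun (congrFun e 1) 1
  simp [Matrix.mul_apply, Fin.sum_univ_two] at e0 e1
  by_contra hne
  have : a = 1 := by
    refine mul_right_cancel₀ hne ?_
    rw [one_mul]; exact e0.symm
  subst this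
  exact hne (by linear_combination -e1)

theorem entry_down {g : GL (Fin 2) F} {n : ℕ}
    (h : ((g * down F 1 : GL (Fin 2) F) : GL (Fin 2) F ⧸ Subgroup.center (GL (Fin 2) F)) =
      ((down F 1 ^ n * g : GL (Fin 2) F) : GL (Fin 2) F ⧸ Subgroup.center (GL (Fin 2) F))) :
    (g : Matrix (Fin 2) (Fin 2) F) 0 1 = 0 := by
  obtain ⟨a, -, e⟩ := eq_smul_of_mk_eq h
  rw [down_pow, Units.val_mul, Units.val_mul, down_val, down_val] at e
  have e0 := congrFun (congrFun e 0) 1
  have e1 := congrFun (congrFun e 0) 0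
  simp [Matrix.mul_apply, Fin.sum_univ_two] at e0 e1
  by_contra hne
  have : a = 1 := by
    refine mul_right_cancel₀ hne ?_
    rw [one_mul]; exact e0.symm
  subst this
  exact hne (by linear_combination -e1)

variable [Fintype F]

theorem card_pgl17 (hF : Fintype.card F = 17) :
    Nat.card (GL (Fin 2) F ⧸ Subgroup.center (GL (Fin 2) F)) = 4896 := by
  have e1 := Subgroup.card_eq_card_quotient_mul_card_subgroup (Subgroup.center (GL (Fin 2) F))
  have e2 := Matrix.card_GL_field (𝔽 := F) 2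
  rw [Fin.prod_univ_two, hF] at e2
  have e3 : Nat.card (Subgroup.center (GL (Fin 2) F)) = 16 := by
    rw [Matrix.GeneralLinearGroup.center_eq_range_scalar,
      ← Nat.card_congr (MonoidHom.ofInjective (f := Matrix.GeneralLinearGroup.scalar (Fin 2))
        (fun a b hab => ?_)).toEquiv, Nat.card_units, Nat.card_eq_fintype_card, hF]
    refine Units.ext ?_
    have := congrArg (fun m : GL (Fin 2) F => (m : Matrix (Fin 2) (Fin 2) F)) hab
    rw [Matrix.GeneralLinearGroup.coe_scalar, Matrix.GeneralLinearGroup.coe_scalar] at this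
    exact Matrix.scalar_inj.1 this
  rw [e3, e2] at e1
  norm_num at e1
  omega

theorem eighteen_pgl (hF : Fintype.card F = 17) :
    Eighteen (GL (Fin 2) F ⧸ Subgroup.center (GL (Fin 2) F)) := by
  set Z := Subgroup.center (GL (Fin 2) F)
  have h17 : ((17 : ℕ) : F) = 0 := by rw [← hF]; exact FiniteField.cast_card_eq_zero F
  have hord : ∀ (w : F → GL (Fin 2) F), (∀ n : ℕ, w 1 ^ n = w (n : F)) → w 0 = 1 →
      ((w 1 : GL (Fin 2) F) : GL (Fin 2) F ⧸ Z) ≠ 1 →
      orderOf ((w 1 : GL (Fin 2) F) : GL (Fin 2) F ⧸ Z) = 17 := fun w hw hw0 hne =>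
    orderOf_eq_prime (by rw [← QuotientGroup.mk_pow, hw, h17, hw0, QuotientGroup.mk_one]) hne
  have hne_up : ((up F 1 : GL (Fin 2) F) : GL (Fin 2) F ⧸ Z) ≠ 1 := fun e => by
    obtain ⟨a, -, e⟩ := eq_smul_of_mk_eq (x := 1) (e.symm.trans rfl)
    have := congrFun (congrFun e 0) 1
    simp [up_val] at this
  have hne_down : ((down F 1 : GL (Fin 2) F) : GL (Fin 2) F ⧸ Z) ≠ 1 := fun e => by
    obtain ⟨a, -, e⟩ := eq_smul_of_mk_eq (x := 1) (e.symm.trans rfl)
    have := congrFun (congrFun e 1) 0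
    simp [down_val] at this
  have hu := hord (up F) up_pow (by rw [← Nat.cast_zero, ← up_pow, pow_zero]) hne_up
  have hv := hord (down F) down_pow (by rw [← Nat.cast_zero, ← down_pow, pow_zero]) hne_down
  have hcard := card_pgl17 hF
  have hG : Nat.card (GL (Fin 2) F ⧸ Z) = 17 ^ 1 * 288 := hcard
  have sylowOf : ∀ w : GL (Fin 2) F ⧸ Z, orderOf w = 17 →
      ∃ P : Sylow 17 (GL (Fin 2) F ⧸ Z), (P : Subgroup _) = Subgroup.zpowers w := by
    intro w hw
    obtain ⟨P, hP⟩ := (IsPGroup.of_card (p := 17) (n := 1)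
      (by rw [Nat.card_zpowers, hw, pow_one]) : IsPGroup 17 (Subgroup.zpowers w)).exists_le_sylow
    refine ⟨P, (Subgroup.eq_of_le_of_card_ge hP ?_).symm⟩
    rw [SmallGroups.card_sylow_eq hG (by norm_num) P, Nat.card_zpowers, hw, pow_one]
  obtain ⟨U, hU⟩ := sylowOf _ hu
  obtain ⟨V, hV⟩ := sylowOf _ hv
  have conjmem : ∀ (w : F → GL (Fin 2) F) (W : Sylow 17 (GL (Fin 2) F ⧸ Z)),
      (W : Subgroup _) = Subgroup.zpowers ((w 1 : GL (Fin 2) F) : GL (Fin 2) F ⧸ Z) →
      ∀ g : GL (Fin 2) F, (g : GL (Fin 2) F ⧸ Z) • W = W →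
        ∃ n : ℕ, ((g * w 1 : GL (Fin 2) F) : GL (Fin 2) F ⧸ Z) = ((w 1 ^ n * g : GL (Fin 2) F) : GL (Fin 2) F ⧸ Z) := by
    intro w W hW g hg
    have hm := (Subgroup.mem_normalizer_iff.mp (Sylow.smul_eq_iff_mem_normalizer.mp hg) _).mp
      (hW ▸ Subgroup.mem_zpowers ((w 1 : GL (Fin 2) F) : GL (Fin 2) F ⧸ Z) :
        ((w 1 : GL (Fin 2) F) : GL (Fin 2) F ⧸ Z) ∈ (W : Subgroup _))
    rw [hW, ← mem_powers_iff_mem_zpowers, Submonoid.mem_powers_iff] at hm
    obtain ⟨n, hn⟩ := hm
    refine ⟨n, ?_⟩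
    simp only [QuotientGroup.mk_mul, QuotientGroup.mk_pow, hn]
    group
  have fixU : ∀ g : GL (Fin 2) F, (g : GL (Fin 2) F ⧸ Z) • U = U →
      (g : Matrix (Fin 2) (Fin 2) F) 1 0 = 0 := fun g hg => by
    obtain ⟨n, hn⟩ := conjmem (up F) U hU g hg
    exact entry_up hn
  have fixV : ∀ g : GL (Fin 2) F, (g : GL (Fin 2) F ⧸ Z) • V = V →
      (g : Matrix (Fin 2) (Fin 2) F) 0 1 = 0 := fun g hg => by
    obtain ⟨n, hn⟩ := conjmem (down F) V hV g hg
    exact entry_down hn
  refine ⟨?_, fun x hx => ?_⟩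
  · have hm := SmallGroups.card_sylow_mem_list hG (by norm_num)
    rw [show (Nat.divisors 288).filter (fun d => d % 17 = 1) = {1, 18} by decide +kernel] at hm
    simp only [Finset.mem_insert, Finset.mem_singleton] at hm
    refine hm.resolve_left fun h1 => ?_
    have : Subsingleton (Sylow 17 (GL (Fin 2) F ⧸ Z)) := (Nat.card_eq_one_iff_unique.mp h1).1
    have h0 := fixU (down F 1) (Subsingleton.elim _ _)
    simp [down_val] at h0
  · obtain ⟨g, rfl⟩ := QuotientGroup.mk'_surjective Z x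
    have hg := hx
    have a := fixU g (hg U)
    have b := fixV g (hg V)
    have c := fixV ((up F 1)⁻¹ * g * up F 1) (by
      simp only [QuotientGroup.mk_mul, QuotientGroup.mk_inv, mul_smul]
      rw [inv_smul_eq_iff]
      exact hg _)
    have hinv : (((up F 1)⁻¹ : GL (Fin 2) F) : Matrix (Fin 2) (Fin 2) F) = !![1, -1; 0, 1] := by
      refine Units.inv_eq_of_mul_eq_one_right ?_
      rw [up_val, Matrix.mul_fin_two]
      simp [Matrix.one_fin_two]
    rw [Units.val_mul, Units.val_mul, hinv, up_val] at c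
    rw [Matrix.eta_fin_two (g : Matrix (Fin 2) (Fin 2) F), Matrix.mul_fin_two, Matrix.mul_fin_two] at c
    simp [a, b] at c
    refine (QuotientGroup.eq_one_iff g).mpr ?_
    show g ∈ Subgroup.center (GL (Fin 2) F)
    rw [Matrix.GeneralLinearGroup.center_eq_range_scalar]
    have hne : (g : Matrix (Fin 2) (Fin 2) F) 0 0 ≠ 0 := fun h0 => by
      have := Matrix.GeneralLinearGroup.det_ne_zero g
      rw [Matrix.det_fin_two, h0, a] at this
      simp at this
    refine ⟨Units.mk0 _ hne, Units.ext ?_⟩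
    rw [Matrix.GeneralLinearGroup.coe_scalar, Matrix.scalar_apply]
    ext i j
    fin_cases i <;> fin_cases j <;> simp [a, b]
    linear_combination c

end PGL

end Cfsg.Agent.Classification.SylowEighteen
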